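import Cfsg.Agent.Lib.Spor.AltNine.Top.Seven

/-!
The last three lists of candidates are complete.
-/

set_option autoImplicit false
set_option maxRecDepth 100000

namespace Cfsg.Agent.Spor.AltNine.Top

theorem cands_facts4 : ((sols [ts[4]]).all fun l =>
    !(mulL l l == idL && cntL l == 4) || (cands[4]).contains l) = true := by decide +kernel

theorem cands_facts5 : ((sols [ts[5]]).all fun l =>
    !(mulL l l == idL && cntL l == 4) || (cands[5]).contains l) = true := by decide +kernel

theorem cands_facts6 : ((sols [ts[6]]).all fun l =>
    !(mulL l l == idL && cntL l == 4) || (cands[6]).contains l) = true := by decide +kernel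

end Cfsg.Agent.Spor.AltNine.Top
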