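import Cfsg.Agent.Lib.Spor.AltNine.Top.CandsA
import Cfsg.Agent.Lib.Spor.AltNine.Top.CandsB

/-!
Seven fixed-point-almost-free involutions of nine points admit no compatible choice of commuting double transpositions.
-/

set_option autoImplicit false
set_option maxRecDepth 100000

namespace Cfsg.Agent.Spor.AltNine.Top

/-- The fixed points. -/
def fixL (l : List (Fin 9)) : List Bool := (List.finRange 9).map fun i => at' l i == i

/-- Order three, or an involution with eight moved points. -/
def badL (l : List (Fin 9)) : Bool :=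
  mulL l (mulL l l) == idL || (mulL l l == idL && cntL l == 8)

/-- Some power before the first trivial one is bad. -/
def powBad (p : List (Fin 9)) : ℕ → List (Fin 9) → Bool
  | 0, _ => false
  | k + 1, q => if q == idL then false else badL q || powBad p k (mulL q p)

/-- Two candidates fit together. -/
def okL (z w : List (Fin 9)) : Bool :=
  z == w || (!(fixL z == fixL w) && !(powBad (mulL z w) 16 (mulL z w)))

/-- No choice exists. -/
def noChoice : List (List (List (Fin 9))) → List (List (Fin 9)) → Bool
  | [], _ => false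
  | c :: cs, ch => c.all fun z => !(ch.all (okL z)) || noChoice cs (z :: ch)

theorem cands_facts : ∀ x ∈ ts.zip cands, ∀ l ∈ sols [x.1],
    (mulL l l == idL && cntL l == 4) = true → l ∈ x.2 := by
  intro x hx l hl hc
  obtain ⟨i, hi, rfl⟩ := List.getElem_of_mem hx
  have key : ∀ (k : ℕ) (hk : k < ts.length) (hk' : k < cands.length),
      ((sols [ts[k]]).all fun l => !(mulL l l == idL && cntL l == 4) || (cands[k]).contains l) = true := by
    intro k hk hk'
    match k, hk with
    | 0, _ => exact cands_facts0
    | 1, _ => exact cands_facts1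
    | 2, _ => exact cands_facts2
    | 3, _ => exact cands_facts3
    | 4, _ => exact cands_facts4
    | 5, _ => exact cands_facts5
    | 6, _ => exact cands_facts6
  simp only [List.getElem_zip] at hl ⊢
  have h := List.all_eq_true.1 (key i (by simp at hi; omega) (by simp at hi; omega)) l hl
  rw [hc] at h
  simpa using h

theorem search : noChoice cands [] = true := by decide +kernel

theorem fixL_img (p : P9) : fixL (img p) = (List.finRange 9).map fun i => p i == i := by
  simp only [fixL, at_img]

theorem powBad_sound (p : P9) : ∀ k n : ℕ, powBad (img p) k (img (p ^ n)) = true →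
    ∃ m, p ^ m ≠ 1 ∧ ((p ^ m) ^ 3 = 1 ∨
      (p ^ m * p ^ m = 1 ∧ (Finset.univ.filter fun i => (p ^ m) i ≠ i).card = 8))
  | 0, _, h => by simp [powBad] at h
  | k + 1, n, h => by
    rw [powBad] at h
    split at h
    · simp at h
    · rename_i hne
      rw [Bool.or_eq_true] at h
      rcases h with h | h
      · refine ⟨n, fun e => hne (by rw [e, img_one]; simp), ?_⟩
        simp only [badL, Bool.or_eq_true, Bool.and_eq_true, beq_iff_eq, mulL_img, cntL_img] at h
        rcases h with h | ⟨h1, h2⟩
        · exact Or.inl (by rw [pow_succ, pow_two, mul_assoc]; exact img_eq_idL h)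
        · exact Or.inr ⟨img_eq_idL h1, h2⟩
      · rw [mulL_img, ← pow_succ] at h
        exact powBad_sound p k (n + 1) h

theorem noChoice_false (P : P9 → Prop) (hok : ∀ z w, P z → P w → okL (img z) (img w) = true) :
    ∀ cs ch, (∀ c ∈ cs, ∃ z, P z ∧ img z ∈ c) → (∀ l ∈ ch, ∃ z, P z ∧ img z = l) →
      noChoice cs ch = true → False
  | [], _, _, _, h => by simp [noChoice] at h
  | c :: cs, ch, hcs, hch, h => by
    obtain ⟨z, hz, hzc⟩ := hcs c List.mem_cons_self
    rw [noChoice, List.all_eq_true] at h
    have h1 := h _ hzc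
    rw [Bool.or_eq_true] at h1
    rcases h1 with h1 | h1
    · rw [Bool.not_eq_true', List.all_eq_false] at h1
      obtain ⟨l, hl, hl'⟩ := h1
      obtain ⟨w, hw, rfl⟩ := hch l hl
      exact hl' (hok z w hz hw)
    · refine noChoice_false P hok cs _ (fun c' hc' => hcs c' (List.mem_cons_of_mem _ hc')) ?_ h1
      intro l hl
      rcases List.mem_cons.1 hl with rfl | hl
      exacts [⟨z, hz, rfl⟩, hch l hl]

/-- No choice function exists. -/
theorem no_choice (P : P9 → Prop)
    (hP : ∀ z, P z → z * z = 1 ∧ (Finset.univ.filter fun i => z i ≠ i).card = 4)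
    (hex : ∀ t : P9, Equiv.Perm.sign t = 1 → t * t = 1 → (Finset.univ.filter fun i => t i ≠ i).card = 8 →
      ∃ z, P z ∧ t * z = z * t)
    (hsupp : ∀ z w, P z → P w → z ≠ w → ¬ ∀ i, z i = i ↔ w i = i)
    (hpow : ∀ z w, P z → P w → z ≠ w → ∀ n : ℕ, (z * w) ^ n ≠ 1 →
      ¬ (((z * w) ^ n) ^ 3 = 1) ∧
      ¬ ((z * w) ^ n * (z * w) ^ n = 1 ∧ (Finset.univ.filter fun i => ((z * w) ^ n) i ≠ i).card = 8)) :
    False := by
  refine noChoice_false P (fun z w hz hw => ?_) cands [] (fun c hc => ?_) (by simp) search
  · by_cases he : z = w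
    · simp [okL, he]
    simp only [okL, Bool.or_eq_true, Bool.and_eq_true, Bool.not_eq_true']
    refine Or.inr ⟨?_, ?_⟩
    · rw [beq_eq_false_iff_ne, fixL_img, fixL_img]
      intro hf
      refine hsupp z w hz hw he fun i => ?_
      have hi := List.map_eq_map_iff.1 hf i (List.mem_finRange i)
      constructor <;> intro hh <;> simpa [hh] using hi
    · by_contra hb
      rw [Bool.not_eq_false, mulL_img, ← pow_one (z * w)] at hb
      rw [pow_one] at hb
      obtain ⟨m, hm, hbad⟩ := powBad_sound (z * w) 16 1 (by rwa [pow_one])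
      obtain ⟨h1, h2⟩ := hpow z w hz hw he m hm
      exact hbad.elim h1 h2
  · obtain ⟨i, hi, rfl⟩ := List.getElem_of_mem hc
    have hi' : i < (ts.zip cands).length := by
      have : ts.length = cands.length := rfl
      rw [List.length_zip]
      omega
    have hmem := List.getElem_mem hi'
    rw [List.getElem_zip] at hmem
    obtain ⟨ht1, ht2, ht3, ht4⟩ := ts_facts _ (List.of_mem_zip hmem).1
    rw [← ht1, cntL_img] at ht4
    obtain ⟨z, hz, hzt⟩ := hex _ ht2 ht3 ht4
    refine ⟨z, hz, cands_facts _ hmem _ ?_ ?_⟩
    · have := mem_sols (gens := [ofL (ts[i]'(by simp at hi'; omega))]) (p := z) (by simpa using hzt)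
      simpa [ht1] using this
    · simp only [Bool.and_eq_true, beq_iff_eq, mulL_img, cntL_img, (hP z hz).1, (hP z hz).2, img_one, and_self]

end Cfsg.Agent.Spor.AltNine.Top
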