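import Cfsg.Agent.Lib.Spor.AltNine.Top.Invol
import Cfsg.Agent.Lib.Spor.AltNine.Top.Choice

/-!
A finite group containing a copy of the alternating group of degree nine which contains the centralisers of all its
elements of order three is that copy.
-/

set_option autoImplicit false
set_option maxRecDepth 100000
set_option linter.unusedSectionVars false

namespace Cfsg.Agent.Spor.AltNine.Top

open Equiv in
theorem fixed_commute {w : P9} {i j : Fin 9} (hi : w i = i) (hj : w j = j) : swap i j * w = w * swap i j := by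
  rw [Equiv.mul_swap_eq_swap_mul, hi, hj]

theorem pu_fix : ∀ i : Fin 9, pu i = i ↔ i.val ≤ 4 := by decide +kernel

theorem same_support {w : P9} (h2 : w * w = 1) (h4 : mv w = 4) (hf : ∀ i, w i = i ↔ pu i = i) :
    w = pu ∨ w = pv ∨ w = pu * pv := by
  have hfx : ∀ i : Fin 9, i.val ≤ 4 → w i = i := fun i hi => (hf i).2 ((pu_fix i).2 hi)
  have h := of_comm [Equiv.swap 0 1, Equiv.swap 1 2, Equiv.swap 2 3, Equiv.swap 3 4]
    (fun q => q * q = 1 → mv q = 4 → q ∈ ([pu, pv, pu * pv] : List P9)) fix_four (p := w) (by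
      intro g hg
      simp only [List.mem_cons, List.not_mem_nil, or_false] at hg
      rcases hg with rfl | rfl | rfl | rfl <;>
        exact fixed_commute (hfx _ (by decide)) (hfx _ (by decide))) h2 h4
  simpa using h

theorem conj_of_odd {H : Type*} [Group H] {s t : H} (hs : s * s = 1) (ht : t * t = 1) {m : ℕ}
    (hm : (s * t) ^ (2 * m + 1) = 1) : ∃ d : H, d * s * d⁻¹ = t := by
  have hsi : s⁻¹ = s := inv_eq_of_mul_eq_one_right hs
  have hti : t⁻¹ = t := inv_eq_of_mul_eq_one_right ht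
  have h1 : s * (s * t) * s⁻¹ = (s * t)⁻¹ := by
    rw [mul_inv_rev, hsi, hti, ← mul_assoc, hs, one_mul]
  have hp : s * (s * t) ^ m * s⁻¹ = ((s * t) ^ m)⁻¹ := by rw [← conj_pow, h1, inv_pow]
  refine ⟨(s * t) ^ m, ?_⟩
  have e1 : s * ((s * t) ^ m)⁻¹ = (s * t) ^ m * s := by
    rw [← hp, hsi, ← mul_assoc, ← mul_assoc, hs, one_mul]
  calc (s * t) ^ m * s * ((s * t) ^ m)⁻¹ = (s * t) ^ m * ((s * t) ^ m * s) := by rw [mul_assoc, e1]
    _ = (s * t) ^ (2 * m + 1) * (s * t)⁻¹ * s := by rw [pow_succ, two_mul, pow_add]; group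
    _ = t := by rw [hm, one_mul, mul_inv_rev, hsi, hti, mul_assoc, hs, mul_one]

theorem between {H : Type*} [Group H] {s t : H} (hs : s * s = 1) (ht : t * t = 1) {m : ℕ}
    (hm : (s * t) ^ (m + m) = 1) :
    (s * t) ^ m * (s * t) ^ m = 1 ∧ s * (s * t) ^ m = (s * t) ^ m * s ∧ t * (s * t) ^ m = (s * t) ^ m * t := by
  have hz : (s * t) ^ m * (s * t) ^ m = 1 := by rw [← pow_add, hm]
  have hzi := inv_eq_of_mul_eq_one_right hz
  have hai := inv_eq_of_mul_eq_one_right hs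
  have hbi := inv_eq_of_mul_eq_one_right ht
  have e1 : s * (s * t) * s⁻¹ = (s * t)⁻¹ := by
    rw [mul_inv_rev, hai, hbi, ← mul_assoc, hs, one_mul]
  have e2 : t * (s * t) * t⁻¹ = (s * t)⁻¹ := by
    rw [mul_inv_rev, hai, hbi, mul_assoc, mul_assoc, ht, mul_one]
  refine ⟨hz, mul_inv_eq_iff_eq_mul.mp ?_, mul_inv_eq_iff_eq_mul.mp ?_⟩
  · rw [← conj_pow, e1, inv_pow, hzi]
  · rw [← conj_pow, e2, inv_pow, hzi]

namespace Copy

variable {G : Type*} [Group G] [Finite G] (c : Copy G)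

/-- (F) every conjugate of a double transposition lies in the copy. -/
theorem conj_eu (g : G) : g * c.Ψ eu * g⁻¹ ∈ c.K := by
  obtain ⟨-, -, -, huu, hvv⟩ := small_facts.2.2.2.2.1
  by_contra hsK
  have hnc : ∀ d : G, ∀ x : A9, mv (x : P9) = 8 → x * x = 1 → d * (g * c.Ψ eu * g⁻¹) * d⁻¹ ≠ c.Ψ x := by
    intro d x h8 h2 h
    have h1 : x ≠ 1 := fun e => by rw [e, Subgroup.coe_one, mv_one] at h8; norm_num at h8
    rcases involution_cases h2 h1 with ⟨h4, -⟩ | ⟨-, σ, hσ⟩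
    · rw [h4.2] at h8; norm_num at h8
    refine c.not_fused (c.Ψ σ * d * g) ?_
    rw [← hσ, map_mul, map_mul, map_inv, ← h]
    group
  set s := g * c.Ψ eu * g⁻¹ with hs
  have hs2 : s * s = 1 := by
    calc s * s = g * (c.Ψ eu * c.Ψ eu) * g⁻¹ := by rw [hs]; group
      _ = 1 := by rw [← map_mul, show eu * eu = 1 from Subtype.ext huu, map_one]; group
  refine no_choice (fun z => ∃ x : A9, (x : P9) = z ∧ T2 x ∧ s * c.Ψ x = c.Ψ x * s) ?_ ?_ ?_ ?_
  · rintro z ⟨x, rfl, ⟨h2, h4⟩, -⟩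
    exact ⟨congrArg Subtype.val h2, h4⟩
  · intro t htsgn ht2 ht8
    set t' : A9 := lift9 t htsgn
    have ht' : t' * t' = 1 := Subtype.ext ht2
    have hT2 : c.Ψ t' * c.Ψ t' = 1 := by rw [← map_mul, ht', map_one]
    rcases Nat.even_or_odd (orderOf (s * c.Ψ t')) with ⟨m, hm⟩ | ⟨m, hm⟩
    · obtain ⟨hz2, hzs, hzt⟩ := between hs2 hT2 (m := m) (by rw [← hm, pow_orderOf_eq_one])
      obtain ⟨x, hx⟩ := c.ct_le_conj ht' ht8 hzt.symm
      have hx1 : x ≠ 1 := fun e => by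
        rw [e, map_one] at hx
        have := orderOf_dvd_of_pow_eq_one hx.symm
        have hpos := orderOf_pos (s * c.Ψ t')
        rcases Nat.eq_zero_or_pos m with rfl | hm0
        · omega
        · exact absurd (Nat.le_of_dvd hm0 this) (by omega)
      have hx2 : x * x = 1 := c.psi_eq_one (by rw [map_mul, hx, hz2])
      rcases involution_cases hx2 hx1 with ⟨hT, -⟩ | ⟨h8, -⟩
      · refine ⟨_, ⟨x, rfl, hT, by rw [hx]; exact hzs⟩, ?_⟩
        have hcx : t' * x = x * t' := c.inj (by rw [map_mul, map_mul, hx]; exact hzt)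
        exact congrArg Subtype.val hcx
      · exact absurd (c.ct_le_conj hx2 h8 (by rw [hx]; exact hzs)) hsK
    · obtain ⟨d, hd⟩ := conj_of_odd hs2 hT2 (m := m) (by rw [← hm, pow_orderOf_eq_one])
      exact absurd hd (hnc d t' ht8 ht')
  · rintro _ _ ⟨x, rfl, hx, hxs⟩ ⟨y, rfl, hy, hys⟩ hne hfix
    rcases involution_cases hx.1 hx.ne_one with ⟨-, σ, hσ⟩ | ⟨h8, -⟩
    swap
    · rw [hx.2] at h8; norm_num at h8
    set y' : A9 := σ * y * σ⁻¹ with hy'
    have hy2 : y' * y' = 1 := by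
      calc y' * y' = σ * (y * y) * σ⁻¹ := by rw [hy']; group
        _ = 1 := by rw [hy.1]; group
    have hy4 : mv (y' : P9) = 4 := (mv_conj _ _).trans hy.2
    have hfy : ∀ i, (y' : P9) i = i ↔ pu i = i := fun i => by
      have h1 : (eu : P9) = σ * x * (σ : P9)⁻¹ := (congrArg Subtype.val hσ).symm
      show ((σ : P9) * y * (σ : P9)⁻¹) i = i ↔ (eu : P9) i = i
      rw [h1]
      have key : ∀ p : P9, ((σ : P9) * p * (σ : P9)⁻¹) i = i ↔ p ((σ : P9)⁻¹ i) = (σ : P9)⁻¹ i := fun p => by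
        simp only [Equiv.Perm.mul_apply]
        refine ⟨fun h => (σ : P9).injective ?_, fun h => by rw [h]; exact Equiv.apply_symm_apply (σ : P9) i⟩
        rw [h]; exact (Equiv.apply_symm_apply (σ : P9) i).symm
      rw [key, key]
      exact (hfix _).symm
    have conj_comm : ∀ z : A9, s * c.Ψ z = c.Ψ z * s →
        c.Ψ σ * s * (c.Ψ σ)⁻¹ * c.Ψ (σ * z * σ⁻¹) = c.Ψ (σ * z * σ⁻¹) * (c.Ψ σ * s * (c.Ψ σ)⁻¹) := by
      intro z hz
      rw [map_mul, map_mul, map_inv]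
      calc c.Ψ σ * s * (c.Ψ σ)⁻¹ * (c.Ψ σ * c.Ψ z * (c.Ψ σ)⁻¹) = c.Ψ σ * (s * c.Ψ z) * (c.Ψ σ)⁻¹ := by group
        _ = c.Ψ σ * (c.Ψ z * s) * (c.Ψ σ)⁻¹ := by rw [hz]
        _ = _ := by group
    have h1 := conj_comm x hxs
    have h2 := conj_comm y hys
    rw [hσ] at h1
    rw [← hy'] at h2
    have hv : c.Ψ σ * s * (c.Ψ σ)⁻¹ * c.Ψ ev = c.Ψ ev * (c.Ψ σ * s * (c.Ψ σ)⁻¹) := by
      rcases same_support (congrArg Subtype.val hy2) hy4 hfy with h | h | h
      · have he : y' = eu := Subtype.ext h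
        rw [← hσ, hy', mul_left_inj, mul_right_inj] at he
        exact absurd (congrArg Subtype.val he.symm) hne
      · rwa [show y' = ev from Subtype.ext h] at h2
      · rw [show y' = eu * ev from Subtype.ext h, map_mul] at h2
        have e1 : c.Ψ ev = c.Ψ eu * (c.Ψ eu * c.Ψ ev) := by
          rw [← mul_assoc, ← map_mul, show eu * eu = 1 from Subtype.ext huu, map_one, one_mul]
        rw [e1, ← mul_assoc, h1, mul_assoc, h2, ← mul_assoc]
    have hm := c.cu_le (c.mem_cen.2 ⟨h1, hv⟩)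
    refine hsK ?_
    have e : s = (c.Ψ σ)⁻¹ * (c.Ψ σ * s * (c.Ψ σ)⁻¹) * c.Ψ σ := by group
    rw [e]
    exact c.K.mul_mem (c.K.mul_mem (c.K.inv_mem (c.mem σ)) hm) (c.mem σ)
  · rintro _ _ ⟨x, rfl, -, hxs⟩ ⟨y, rfl, -, hys⟩ - n hn
    have hp1 : (x * y) ^ n ≠ 1 := fun h => hn (by
      rw [← Subgroup.coe_mul, ← SubgroupClass.coe_pow, h]; rfl)
    have hcp : s * c.Ψ ((x * y) ^ n) = c.Ψ ((x * y) ^ n) * s := by
      rw [map_pow, map_mul]
      exact (((show Commute s (c.Ψ x) from hxs).mul_right (show Commute s (c.Ψ y) from hys)).pow_right n).eq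
    refine ⟨fun h3 => hsK (c.cent ?_ hp1 hcp), fun h => hsK (c.ct_le_conj ?_ ?_ hcp)⟩
    · exact Subtype.ext (by
        rw [SubgroupClass.coe_pow, SubgroupClass.coe_pow, Subgroup.coe_mul]; exact h3)
    · exact Subtype.ext (by
        rw [Subgroup.coe_mul, SubgroupClass.coe_pow, Subgroup.coe_mul]; exact h.1)
    · rw [SubgroupClass.coe_pow, Subgroup.coe_mul]; exact h.2

theorem conj_t2 (g : G) {x : A9} (hx : T2 x) : g * c.Ψ x * g⁻¹ ∈ c.K := by
  rcases involution_cases hx.1 hx.ne_one with ⟨-, σ, hσ⟩ | ⟨h8, -⟩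
  · have h := c.conj_eu (g * (c.Ψ σ)⁻¹)
    rw [← hσ, map_mul, map_mul, map_inv] at h
    have e : g * c.Ψ x * g⁻¹ = g * (c.Ψ σ)⁻¹ * (c.Ψ σ * c.Ψ x * (c.Ψ σ)⁻¹) * (g * (c.Ψ σ)⁻¹)⁻¹ := by group
    rw [e]; exact h
  · rw [hx.2] at h8; norm_num at h8

theorem K_eq_top : c.K = ⊤ := by
  obtain ⟨ha3, ha1, -⟩ := rep_cube
  obtain ⟨-, -, -, -, -, -, -, -, -, -, -, hag, hs1, hs2, hg1, hg2, hm1, hm2, -⟩ := gen_facts
  have h1 : T2 (lift9 pg1 hs1) := ⟨Subtype.ext hg1, hm1⟩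
  have h2 : T2 (lift9 pg2 hs2) := ⟨Subtype.ext hg2, hm2⟩
  have ha : ea = lift9 pg1 hs1 * lift9 pg2 hs2 := Subtype.ext hag
  refine eq_top_iff.2 fun g _ => c.ctl ha3 ha1 ?_
  have e : g⁻¹ * c.Ψ ea * g = (g⁻¹ * c.Ψ (lift9 pg1 hs1) * g⁻¹⁻¹) * (g⁻¹ * c.Ψ (lift9 pg2 hs2) * g⁻¹⁻¹) := by
    rw [ha, map_mul]; group
  rw [e]
  exact c.K.mul_mem (c.conj_t2 g⁻¹ h1) (c.conj_t2 g⁻¹ h2)

end Copy

/-- A finite group with a copy of the alternating group of degree nine containing the centralisers of all its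
elements of order three is that copy. -/
theorem alt_nine_eq_top {G : Type*} [Group G] [Finite G] (Ψ : alternatingGroup (Fin 9) →* G)
    (hinj : Function.Injective Ψ) (hcent : ∀ x, orderOf x = 3 → ∀ g : G, Commute g (Ψ x) → g ∈ Ψ.range) :
    Ψ.range = ⊤ :=
  (⟨Ψ, hinj, hcent⟩ : Copy G).K_eq_top

end Cfsg.Agent.Spor.AltNine.Top
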