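import Mathlib.GroupTheory.SpecificGroups.Alternating
import Mathlib.GroupTheory.SpecificGroups.Alternating.Simple
import Mathlib.GroupTheory.Perm.Fin
import Mathlib.Data.List.Permutation

/-!
Two small facts about the alternating group of degree five.
-/

set_option autoImplicit false
set_option maxRecDepth 100000

namespace Cfsg.Agent.Spor.AltNine.Top

/-- The list of images. -/
def img5 (p : Equiv.Perm (Fin 5)) : List (Fin 5) := List.ofFn p

/-- The product of two lists of images. -/
def mul5 (a b : List (Fin 5)) : List (Fin 5) := b.map fun i => a.getD i.val 0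

/-- The number of moved points. -/
def cnt5 (l : List (Fin 5)) : ℕ := ((List.finRange 5).filter fun i => decide (l.getD i.val 0 ≠ i)).length

theorem get5 (p : Equiv.Perm (Fin 5)) (i : Fin 5) : (img5 p).getD i.val 0 = p i := by
  rw [img5, List.getD, List.getElem?_eq_getElem (by simp), Option.getD_some, List.getElem_ofFn]

theorem mul5_img (p q : Equiv.Perm (Fin 5)) : mul5 (img5 p) (img5 q) = img5 (p * q) := by
  simp only [mul5, img5, List.map_ofFn]
  congr 1
  funext i
  exact get5 p (q i)

theorem img5_one : img5 1 = List.finRange 5 := by decide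

theorem img5_inj : Function.Injective img5 := fun p q h =>
  Equiv.ext fun i => by rw [← get5 p i, h, get5]

theorem img5_eq_id {p : Equiv.Perm (Fin 5)} : img5 p = List.finRange 5 ↔ p = 1 := by
  rw [← img5_one]; exact img5_inj.eq_iff

theorem mem_perms (p : Equiv.Perm (Fin 5)) : img5 p ∈ (List.finRange 5).permutations' := by
  rw [List.mem_permutations', img5, List.ofFn_eq_map]
  exact p.map_finRange_perm

theorem check5 : ((List.finRange 5).permutations'.all fun y =>
    !(mul5 y (mul5 y y) == List.finRange 5 && !(y == List.finRange 5)) ||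
    (List.finRange 5).permutations'.all fun w =>
      !(mul5 w w == List.finRange 5 && !(cnt5 w == 2) && mul5 w y == mul5 (mul5 y y) w) ||
      (List.finRange 5).permutations'.all fun q =>
        (q == List.finRange 5) || !(mul5 q q == List.finRange 5 && !(cnt5 q == 2)) ||
        !(mul5 q (mul5 (mul5 y q) (mul5 y y)) == mul5 (mul5 (mul5 y q) (mul5 y y)) q) ||
        !(mul5 (mul5 (mul5 q w) (mul5 q w)) (mul5 (mul5 q w) (mul5 q w)) == List.finRange 5) ||
        !(mul5 (mul5 (mul5 (mul5 (mul5 y q) (mul5 y y)) w) (mul5 (mul5 (mul5 y q) (mul5 y y)) w))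
          (mul5 (mul5 (mul5 (mul5 y q) (mul5 y y)) w) (mul5 (mul5 (mul5 y q) (mul5 y y)) w)) ==
            List.finRange 5)) = true := by
  decide +kernel

theorem cnt_ne_two {w : Equiv.Perm (Fin 5)} (hs : Equiv.Perm.sign w = 1) : cnt5 (img5 w) ≠ 2 := by
  intro h
  have hc : w.support.card = 2 := by
    rw [← h]
    simp only [cnt5, get5]
    rfl
  obtain ⟨a, b, hab, rfl⟩ := Equiv.Perm.card_support_eq_two.1 hc
  rw [Equiv.Perm.sign_swap hab] at hs
  exact absurd hs (by decide)

/-- In the alternating group of degree five a commuting pair of involutions permuted by an element of order three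
and its inverter is trivial. -/
theorem alt_five_pair (y w q : alternatingGroup (Fin 5)) (hy : y ^ 3 = 1) (hy1 : y ≠ 1) (hw : w * w = 1)
    (hwy : w * y * w⁻¹ = y⁻¹) (hq : q * q = 1) (hqc : q * (y * q * y⁻¹) = y * q * y⁻¹ * q)
    (h4 : (q * w) ^ 4 = 1) (h4' : (y * q * y⁻¹ * w) ^ 4 = 1) : q = 1 := by
  have hyi : y⁻¹ = y * y := inv_eq_of_mul_eq_one_right (by rw [← mul_assoc, ← pow_two, ← pow_succ, hy])
  rw [hyi] at hwy hqc h4'
  rw [mul_inv_eq_iff_eq_mul] at hwy
  have e4 : ∀ a : Equiv.Perm (Fin 5), a * a * (a * a) = a ^ 4 := fun a => by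
    rw [← pow_two, ← pow_two, ← pow_mul]
  apply Subtype.ext
  obtain ⟨y, hys⟩ := y
  obtain ⟨w, hws⟩ := w
  obtain ⟨q, hqs⟩ := q
  simp only [Subtype.ext_iff, Subgroup.coe_mul, SubgroupClass.coe_pow, Subgroup.coe_one, ne_eq] at *
  have h := List.all_eq_true.1 check5 _ (mem_perms y)
  simp only [Bool.or_eq_true, Bool.not_eq_true', mul5_img, List.all_eq_true] at h
  rcases h with h | h
  · rw [Bool.and_eq_false_iff, beq_eq_false_iff_ne, Bool.not_eq_false', beq_iff_eq] at h
    rcases h with h | h
    · exact absurd (img5_eq_id.2 (by rw [← mul_assoc, ← pow_two, ← pow_succ, hy])) h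
    · exact absurd (img5_eq_id.1 h) hy1
  have h' := h _ (mem_perms w)
  simp only [mul5_img, Bool.and_eq_false_iff, beq_eq_false_iff_ne, Bool.not_eq_false', beq_iff_eq] at h'
  rcases h' with ((h' | h') | h') | h'
  · exact absurd (img5_eq_id.2 hw) h'
  · exact absurd h' (cnt_ne_two (Equiv.Perm.mem_alternatingGroup.1 hws))
  · exact absurd (congrArg img5 hwy) h'
  have h'' := h' _ (mem_perms q)
  simp only [mul5_img, Bool.and_eq_false_iff, beq_eq_false_iff_ne, Bool.not_eq_false', beq_iff_eq,
    img5_eq_id, img5_inj.eq_iff, ne_eq, e4, hq, hqc, h4, h4', not_true_eq_false, or_false, false_or] at h''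
  exact h''.resolve_right (cnt_ne_two (Equiv.Perm.mem_alternatingGroup.1 hqs))

/-- The alternating group of degree five has no proper subgroup of index at most four. -/
theorem alt_five_index (H : Subgroup (alternatingGroup (Fin 5))) (h : H.index ≤ 4) : H = ⊤ := by
  haveI : IsSimpleGroup (alternatingGroup (Fin 5)) := alternatingGroup.isSimpleGroup_five
  rcases (Subgroup.normalCore_normal H).eq_bot_or_eq_top with hb | ht
  · exfalso
    rw [Subgroup.normalCore_eq_ker] at hb
    have h1 := Subgroup.card_dvd_of_injective _ ((MonoidHom.ker_eq_bot_iff _).1 hb)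
    rw [Nat.card_perm, ← Subgroup.index_eq_card, nat_card_alternatingGroup, Nat.card_fin] at h1
    have h2 : H.index.factorial ≤ 24 := (Nat.factorial_le h).trans (by decide)
    have h3 := Nat.le_of_dvd (Nat.factorial_pos _) h1
    have h5 : Nat.factorial 5 / 2 = 60 := by decide
    omega
  · exact top_le_iff.1 (ht ▸ H.normalCore_le)

end Cfsg.Agent.Spor.AltNine.Top
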