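import Cfsg.Agent.Lib.Spor.AltNine.Top.Model

/-!
Checked searches in small centralisers of permutations of nine points.
-/

set_option autoImplicit false
set_option maxRecDepth 100000
set_option synthInstance.maxSize 4000

namespace Cfsg.Agent.Spor.AltNine.Top

open Equiv

/-- Three-cycles commuting with the double transposition, as lists. -/
def hits : List (List (Fin 9)) :=
  [
    [0, 1, 3, 4, 2, 5, 6, 7, 8],
    [0, 2, 3, 1, 4, 5, 6, 7, 8],
    [0, 2, 4, 3, 1, 5, 6, 7, 8],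
    [0, 3, 2, 4, 1, 5, 6, 7, 8],
    [1, 2, 0, 3, 4, 5, 6, 7, 8],
    [1, 3, 2, 0, 4, 5, 6, 7, 8],
    [1, 4, 2, 3, 0, 5, 6, 7, 8],
    [2, 1, 3, 0, 4, 5, 6, 7, 8],
    [2, 1, 4, 3, 0, 5, 6, 7, 8],
    [3, 1, 2, 4, 0, 5, 6, 7, 8]]

theorem hits_facts : ∀ x ∈ hits, img (ofL x) = x ∧ Equiv.Perm.sign (ofL x) = 1 ∧ ofL x ^ 3 = 1 ∧
    ofL x ≠ 1 ∧ pu * ofL x = ofL x * pu := by decide +kernel

theorem hits_cover : ∀ l ∈ sols ([pu].map img),
    (mulL l l == idL && cntL l == 4 && cntL (mulL [0, 1, 2, 3, 4, 6, 5, 8, 7] l) == 4) = true →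
    (hits.any fun x => mulL l x == mulL x l) = true := by decide +kernel

theorem img_pu : img pu = [0, 1, 2, 3, 4, 6, 5, 8, 7] := by decide +kernel

theorem cu_three {p : P9} (hc : pu * p = p * pu) (h2 : p * p = 1) (h4 : mv p = 4) (h4' : mv (pu * p) = 4) :
    ∃ x : P9, Equiv.Perm.sign x = 1 ∧ x ^ 3 = 1 ∧ x ≠ 1 ∧ pu * x = x * pu ∧ p * x = x * p := by
  have h := hits_cover _ (mem_sols (gens := [pu]) (p := p) (by simpa using hc))
  rw [← img_pu] at h
  simp only [mulL_img, cntL_img, h2, img_one, beq_self_eq_true, Bool.true_and, Bool.and_eq_true, beq_iff_eq,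
    List.any_eq_true] at h
  obtain ⟨x, hx, hxc⟩ := h ⟨by exact h4, by exact h4'⟩
  obtain ⟨hi, hs, h3, h1, hu⟩ := hits_facts x hx
  rw [← hi, mulL_img, mulL_img] at hxc
  exact ⟨ofL x, hs, h3, h1, hu, img_inj hxc⟩

end Cfsg.Agent.Spor.AltNine.Top
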