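import Cfsg.Agent.Lib.Spor.AltNine.Top.Enum
import Mathlib.GroupTheory.Perm.Cycle.Type
import Mathlib.GroupTheory.SpecificGroups.Alternating
import Mathlib.Data.Fintype.Pi

/-!
Conjugacy of elements of order two and three in the alternating group of degree nine, and further small facts.
-/

set_option autoImplicit false
set_option maxRecDepth 100000
set_option synthInstance.maxSize 4000
set_option synthInstance.maxHeartbeats 200000

namespace Cfsg.Agent.Spor.AltNine.Top

open Equiv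

/-- The third generator of the group of order nine over the four-group. -/
def pf : P9 := swap 6 7 * swap 7 8

theorem pf_pow : pf ^ 3 = 1 ∧ pf ≠ 1 ∧ (swap 0 1 * swap 1 2) * pf = pf * (swap 0 1 * swap 1 2) := by decide +kernel

theorem pf_act : pf * (swap 5 6 * swap 7 8) * pf⁻¹ = swap 5 7 * swap 6 8 ∧
    pf * (swap 5 7 * swap 6 8) * pf⁻¹ = (swap 5 6 * swap 7 8) * (swap 5 7 * swap 6 8) := by decide +kernel

theorem pf_sign : Equiv.Perm.sign pf = 1 := by simp +decide [pf]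

theorem conj_of_type {x r o : P9} (hx : x.cycleType = r.cycleType) (ho : Equiv.Perm.sign o = -1)
    (hor : o * r = r * o) : ∃ σ : alternatingGroup (Fin 9), (σ : P9) * x * (σ : P9)⁻¹ = r := by
  obtain ⟨σ, hσ⟩ := isConj_iff.1 (Equiv.Perm.isConj_iff_cycleType_eq.2 hx)
  rcases Int.units_eq_one_or (Equiv.Perm.sign σ) with h | h
  · exact ⟨⟨σ, Equiv.Perm.mem_alternatingGroup.2 h⟩, hσ⟩
  · refine ⟨⟨o * σ, Equiv.Perm.mem_alternatingGroup.2 (by rw [map_mul, ho, h]; rfl)⟩, ?_⟩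
    show o * σ * x * (o * σ)⁻¹ = r
    calc o * σ * x * (o * σ)⁻¹ = o * (σ * x * σ⁻¹) * o⁻¹ := by group
      _ = o * r * o⁻¹ := by rw [hσ]
      _ = r := by rw [hor, mul_inv_cancel_right]

theorem three_classes {x : P9} (h3 : x ^ 3 = 1) (h1 : x ≠ 1) :
    ∃ σ : alternatingGroup (Fin 9),
      (σ : P9) * x * (σ : P9)⁻¹ = swap 0 1 * swap 1 2 ∨
      (σ : P9) * x * (σ : P9)⁻¹ = swap 0 1 * swap 1 2 * (swap 3 4 * swap 4 5) ∨
      (σ : P9) * x * (σ : P9)⁻¹ = swap 0 1 * swap 1 2 * (swap 3 4 * swap 4 5) * (swap 6 7 * swap 7 8) := by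
  have ho : orderOf x = 3 := by
    haveI : Fact (Nat.Prime 3) := ⟨Nat.prime_three⟩
    exact orderOf_eq_prime h3 h1
  obtain ⟨n, hn⟩ := Equiv.Perm.cycleType_prime_order (σ := x) (by rw [ho]; exact Nat.prime_three)
  rw [ho] at hn
  have hsum := x.sum_cycleType_le
  rw [hn, Multiset.sum_replicate, Fintype.card_fin, smul_eq_mul] at hsum
  have t1 : Equiv.Perm.cycleType (swap 0 1 * swap 1 2 : P9) = Multiset.replicate 1 3 := by decide +kernel
  have t2 : Equiv.Perm.cycleType (swap 0 1 * swap 1 2 * (swap 3 4 * swap 4 5) : P9) =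
      Multiset.replicate 2 3 := by decide +kernel
  have t3 : Equiv.Perm.cycleType
      (swap 0 1 * swap 1 2 * (swap 3 4 * swap 4 5) * (swap 6 7 * swap 7 8) : P9) =
      Multiset.replicate 3 3 := by decide +kernel
  obtain rfl | rfl | rfl : n = 0 ∨ n = 1 ∨ n = 2 := by omega
  · obtain ⟨σ, hσ⟩ := conj_of_type (r := swap 0 1 * swap 1 2) (o := swap 3 4) (hn.trans t1.symm)
      (by decide +kernel) (by decide +kernel)
    exact ⟨σ, Or.inl hσ⟩
  · obtain ⟨σ, hσ⟩ := conj_of_type (r := swap 0 1 * swap 1 2 * (swap 3 4 * swap 4 5)) (o := swap 6 7)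
      (hn.trans t2.symm) (by decide +kernel) (by decide +kernel)
    exact ⟨σ, Or.inr (Or.inl hσ)⟩
  · obtain ⟨σ, hσ⟩ := conj_of_type
      (r := swap 0 1 * swap 1 2 * (swap 3 4 * swap 4 5) * (swap 6 7 * swap 7 8))
      (o := swap 0 3 * swap 1 4 * swap 2 5)
      (hn.trans t3.symm) (by decide +kernel) (by decide +kernel)
    exact ⟨σ, Or.inr (Or.inr hσ)⟩

theorem two_classes {x : P9} (hs : Equiv.Perm.sign x = 1) (h2 : x * x = 1) (h1 : x ≠ 1) :
    ∃ σ : alternatingGroup (Fin 9),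
      ((σ : P9) * x * (σ : P9)⁻¹ = swap 5 6 * swap 7 8 ∧ (Finset.univ.filter fun i => x i ≠ i).card = 4) ∨
      ((σ : P9) * x * (σ : P9)⁻¹ = swap 1 2 * swap 3 4 * swap 5 6 * swap 7 8 ∧
        (Finset.univ.filter fun i => x i ≠ i).card = 8) := by
  have ho : orderOf x = 2 := by
    haveI : Fact (Nat.Prime 2) := ⟨Nat.prime_two⟩
    exact orderOf_eq_prime (by rw [pow_two]; exact h2) h1
  obtain ⟨n, hn⟩ := Equiv.Perm.cycleType_prime_order (σ := x) (by rw [ho]; exact Nat.prime_two)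
  rw [ho] at hn
  have hsum := x.sum_cycleType_le
  have hsupp := x.sum_cycleType
  rw [hn, Multiset.sum_replicate, Fintype.card_fin, smul_eq_mul] at hsum
  rw [hn, Multiset.sum_replicate, smul_eq_mul] at hsupp
  rw [Equiv.Perm.sign_of_cycleType, hn, Multiset.sum_replicate, Multiset.card_replicate, smul_eq_mul] at hs
  have t1 : Equiv.Perm.cycleType (swap 5 6 * swap 7 8 : P9) = Multiset.replicate 2 2 := by decide +kernel
  have t2 : Equiv.Perm.cycleType (swap 1 2 * swap 3 4 * swap 5 6 * swap 7 8 : P9) =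
      Multiset.replicate 4 2 := by decide +kernel
  obtain rfl | rfl | rfl | rfl : n = 0 ∨ n = 1 ∨ n = 2 ∨ n = 3 := by omega
  · exact absurd hs (by decide)
  · obtain ⟨σ, hσ⟩ := conj_of_type (r := swap 5 6 * swap 7 8) (o := swap 5 6) (hn.trans t1.symm)
      (by decide +kernel) (by decide +kernel)
    exact ⟨σ, Or.inl ⟨hσ, hsupp.symm⟩⟩
  · exact absurd hs (by decide)
  · obtain ⟨σ, hσ⟩ := conj_of_type (r := swap 1 2 * swap 3 4 * swap 5 6 * swap 7 8) (o := swap 1 2)
      (hn.trans t2.symm) (by decide +kernel) (by decide +kernel)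
    exact ⟨σ, Or.inr ⟨hσ, hsupp.symm⟩⟩

end Cfsg.Agent.Spor.AltNine.Top
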