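import Cfsg.Agent.Lib.Spor.AltNine.Top.Cent
import Cfsg.Agent.Lib.Spor.AltNine.Top.CentThree
import Cfsg.Agent.Lib.Spor.AltNine.Top.Model2
import Cfsg.Agent.Lib.Spor.AltNine.Top.AFive

/-!
An injective copy of the alternating group of degree nine containing the centralisers of its elements of order three:
conjugation control for elements of order three.
-/

set_option autoImplicit false
set_option maxRecDepth 100000
set_option synthInstance.maxSize 4000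
set_option linter.unusedSectionVars false

namespace Cfsg.Agent.Spor.AltNine.Top

open Equiv

/-- The alternating group of degree nine. -/
abbrev A9 : Type := alternatingGroup (Fin 9)

/-- An even permutation as an element of the alternating group. -/
def lift9 (p : P9) (h : Equiv.Perm.sign p = 1) : A9 := ⟨p, Equiv.Perm.mem_alternatingGroup.2 h⟩

theorem sgn (x : A9) : Equiv.Perm.sign (x : P9) = 1 := Equiv.Perm.mem_alternatingGroup.1 x.2

def ea : A9 := lift9 pa (small_facts.1 _ (by simp))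
def eb : A9 := lift9 pb (small_facts.1 _ (by simp))
def ec : A9 := lift9 pc (small_facts.1 _ (by simp))
def eu : A9 := lift9 pu (small_facts.1 _ (by simp))
def ev : A9 := lift9 pv (small_facts.1 _ (by simp))
def et : A9 := lift9 pt (small_facts.1 _ (by simp))
def ed : A9 := lift9 pd (small_facts.1 _ (by simp))
def er : A9 := lift9 pr (small_facts.1 _ (by simp))
def eu1 : A9 := lift9 pu1 (small_facts.1 _ (by simp))
def ev1 : A9 := lift9 pv1 (small_facts.1 _ (by simp))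
def ex' : A9 := lift9 px (small_facts.1 _ (by simp))
def ef5 : A9 := lift9 pf5 (small_facts.1 _ (by simp))
def ei2 : A9 := lift9 pi2 (small_facts.1 _ (by simp))
def ef : A9 := lift9 pf pf_sign

theorem mv_eq_card_support (p : P9) : mv p = p.support.card := rfl

theorem mv_conj (σ p : P9) : mv (σ * p * σ⁻¹) = mv p := by
  rw [mv_eq_card_support, mv_eq_card_support, ← Equiv.Perm.sum_cycleType, ← Equiv.Perm.sum_cycleType,
    Equiv.Perm.cycleType_conj]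

/-- The hypothesis of the final step. -/
structure Copy (G : Type*) [Group G] where
  Ψ : A9 →* G
  inj : Function.Injective Ψ
  cent' : ∀ x, orderOf x = 3 → ∀ g : G, Commute g (Ψ x) → g ∈ Ψ.range

namespace Copy

variable {G : Type*} [Group G] [Finite G] (c : Copy G)

/-- The copy. -/
def K : Subgroup G := c.Ψ.range

theorem mem (x : A9) : c.Ψ x ∈ c.K := ⟨x, rfl⟩

theorem cent {x : A9} (h3 : x ^ 3 = 1) (h1 : x ≠ 1) {g : G} (hg : g * c.Ψ x = c.Ψ x * g) : g ∈ c.K :=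
  haveI : Fact (Nat.Prime 3) := ⟨Nat.prime_three⟩
  c.cent' x (orderOf_eq_prime h3 h1) g hg

theorem rep_three {x : A9} (h3 : x ^ 3 = 1) (h1 : x ≠ 1) :
    ∃ σ : A9, σ * x * σ⁻¹ = ea ∨ σ * x * σ⁻¹ = eb ∨ σ * x * σ⁻¹ = ec := by
  obtain ⟨σ, h⟩ := three_classes (x := (x : P9)) (by rw [← SubmonoidClass.coe_pow, h3]; rfl)
    (fun h => h1 (Subtype.ext h))
  exact ⟨σ, h.imp (fun h => Subtype.ext h) (Or.imp (fun h => Subtype.ext h) fun h => Subtype.ext h)⟩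

/-- The centraliser has an element of the given exponent. -/
def Has (n : ℕ) (x : A9) : Prop := ∃ z : A9, z ^ n = 1 ∧ z ≠ 1 ∧ z * x = x * z

theorem five_b : ¬ Has 5 eb := fun ⟨z, hz, hz1, hc⟩ => hz1 (Subtype.ext
  (of_comm [pb] (fun q => q ^ 5 = 1 → q = 1) cb_five
    (fun g hg => by rw [List.mem_singleton] at hg; subst hg; exact (congrArg Subtype.val hc).symm)
    (congrArg Subtype.val hz)))

theorem two_c : ¬ Has 2 ec := fun ⟨z, hz, hz1, hc⟩ => hz1 (Subtype.ext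
  (of_comm [pc] (fun q => Equiv.Perm.sign q = 1 → q * q = 1 → q = 1) cc_two
    (fun g hg => by rw [List.mem_singleton] at hg; subst hg; exact (congrArg Subtype.val hc).symm)
    (sgn z) (by rw [← pow_two]; exact congrArg Subtype.val hz)))

theorem five_a : Has 5 ea :=
  ⟨ef5, Subtype.ext small_facts.2.1.1, fun h => small_facts.2.1.2.1 (congrArg Subtype.val h),
    Subtype.ext small_facts.2.1.2.2.symm⟩

theorem two_a : Has 2 ea :=
  ⟨eu, Subtype.ext (by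
    show pu ^ 2 = 1
    rw [pow_two]; exact small_facts.2.2.2.2.1.2.2.2.1),
    fun h => gen_facts.2.2.2.2.2.2.2.2.2.2.2.2.2.2.2.2.2.2.1 (congrArg Subtype.val h),
    Subtype.ext small_facts.2.2.2.2.1.1.symm⟩

theorem two_b : Has 2 eb :=
  ⟨ei2, Subtype.ext (by show pi2 ^ 2 = 1; rw [pow_two]; exact small_facts.2.2.1.1),
    fun h => small_facts.2.2.1.2.1 (congrArg Subtype.val h), Subtype.ext small_facts.2.2.1.2.2.symm⟩

theorem has_transfer {x y : A9} {k : G} (hx3 : x ^ 3 = 1) (hx1 : x ≠ 1) (hy3 : y ^ 3 = 1) (hy1 : y ≠ 1)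
    (h : k⁻¹ * c.Ψ x * k = c.Ψ y) {n : ℕ} (hn : Has n x) : Has n y := by
  obtain ⟨z, hz, hz1, hc⟩ := hn
  have hcx : c.Ψ z * c.Ψ x = c.Ψ x * c.Ψ z := by rw [← map_mul, ← map_mul, hc]
  obtain ⟨w, hw⟩ := c.cent hy3 hy1 (g := k⁻¹ * c.Ψ z * k) (by
    rw [← h]
    calc k⁻¹ * c.Ψ z * k * (k⁻¹ * c.Ψ x * k) = k⁻¹ * (c.Ψ z * c.Ψ x) * k := by group
      _ = k⁻¹ * (c.Ψ x * c.Ψ z) * k := by rw [hcx]
      _ = k⁻¹ * c.Ψ x * k * (k⁻¹ * c.Ψ z * k) := by group)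
  refine ⟨w, c.inj ?_, fun hw1 => hz1 (c.inj ?_), c.inj ?_⟩
  · have h2 := conj_pow (a := k⁻¹) (b := c.Ψ z) (i := n)
    rw [inv_inv] at h2
    rw [map_pow, hw, h2, ← map_pow, hz, map_one]
    group
  · rw [hw1, map_one] at hw
    have h2 : c.Ψ z = k * (k⁻¹ * c.Ψ z * k) * k⁻¹ := by group
    rw [h2, ← hw, map_one]
    group
  · rw [map_mul, map_mul, hw, ← h]
    calc k⁻¹ * c.Ψ z * k * (k⁻¹ * c.Ψ x * k) = k⁻¹ * (c.Ψ z * c.Ψ x) * k := by group
      _ = k⁻¹ * (c.Ψ x * c.Ψ z) * k := by rw [hcx]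
      _ = k⁻¹ * c.Ψ x * k * (k⁻¹ * c.Ψ z * k) := by group

theorem rep_cube : ea ^ 3 = 1 ∧ ea ≠ 1 ∧ eb ^ 3 = 1 ∧ eb ≠ 1 ∧ ec ^ 3 = 1 ∧ ec ≠ 1 := by
  obtain ⟨-, -, -, -, -, -, -, -, -, -, -, -, -, -, -, -, -, -, -, -, -, ha, hb, hc, -, -, ha3, hb3, hc3, -⟩ :=
    gen_facts
  exact ⟨Subtype.ext ha3, fun h => ha (congrArg Subtype.val h), Subtype.ext hb3,
    fun h => hb (congrArg Subtype.val h), Subtype.ext hc3, fun h => hc (congrArg Subtype.val h)⟩

/-- (A) conjugation control for elements of order three. -/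
theorem ctl {x : A9} (h3 : x ^ 3 = 1) (h1 : x ≠ 1) {g : G} (hg : g⁻¹ * c.Ψ x * g ∈ c.K) : g ∈ c.K := by
  obtain ⟨y, hy⟩ := hg
  have hy3 : y ^ 3 = 1 := c.inj (by
    have h2 := conj_pow (a := g⁻¹) (b := c.Ψ x) (i := 3)
    rw [inv_inv] at h2
    rw [map_pow, hy, h2, ← map_pow, h3, map_one]; group)
  have hy1 : y ≠ 1 := fun e => h1 (c.inj (by
    rw [e, map_one] at hy
    have h2 : c.Ψ x = g * (g⁻¹ * c.Ψ x * g) * g⁻¹ := by group
    rw [h2, ← hy, map_one]; group))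
  obtain ⟨σ, hσ⟩ := rep_three h3 h1
  obtain ⟨τ, hτ⟩ := rep_three hy3 hy1
  have key : ∀ r r' : A9, r ^ 3 = 1 → r ≠ 1 → r' ^ 3 = 1 → r' ≠ 1 → σ * x * σ⁻¹ = r → τ * y * τ⁻¹ = r' →
      ((∀ n, Has n r ↔ Has n r') → r = r') → g ∈ c.K := by
    intro r r' hr3 hr1 hr3' hr1' hr hr' hsep
    have hk : (c.Ψ σ * g * c.Ψ τ⁻¹)⁻¹ * c.Ψ r * (c.Ψ σ * g * c.Ψ τ⁻¹) = c.Ψ r' := by
      rw [← hr, ← hr', map_mul, map_mul, map_mul, map_mul, map_inv, map_inv, hy]
      group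
    have hk' : (c.Ψ σ * g * c.Ψ τ⁻¹)⁻¹⁻¹ * c.Ψ r' * (c.Ψ σ * g * c.Ψ τ⁻¹)⁻¹ = c.Ψ r := by
      rw [← hk]; group
    obtain rfl := hsep fun n => ⟨c.has_transfer hr3 hr1 hr3' hr1' hk, c.has_transfer hr3' hr1' hr3 hr1 hk'⟩
    have hcomm : c.Ψ σ * g * c.Ψ τ⁻¹ ∈ c.K := c.cent hr3 hr1 (by
      conv_lhs => rw [← hk]
      group)
    have h2 : g = (c.Ψ σ)⁻¹ * (c.Ψ σ * g * c.Ψ τ⁻¹) * c.Ψ τ := by rw [map_inv]; group
    rw [h2]
    exact c.K.mul_mem (c.K.mul_mem (c.K.inv_mem (c.mem σ)) hcomm) (c.mem τ)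
  obtain ⟨a3, a1, b3, b1, c3, c1⟩ := rep_cube
  rcases hσ with hr | hr | hr <;> rcases hτ with hr' | hr' | hr'
  · exact key _ _ a3 a1 a3 a1 hr hr' fun _ => rfl
  · exact key _ _ a3 a1 b3 b1 hr hr' fun h => absurd ((h 5).1 five_a) five_b
  · exact key _ _ a3 a1 c3 c1 hr hr' fun h => absurd ((h 2).1 two_a) two_c
  · exact key _ _ b3 b1 a3 a1 hr hr' fun h => absurd ((h 5).2 five_a) five_b
  · exact key _ _ b3 b1 b3 b1 hr hr' fun _ => rfl
  · exact key _ _ b3 b1 c3 c1 hr hr' fun h => absurd ((h 2).1 two_b) two_c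
  · exact key _ _ c3 c1 a3 a1 hr hr' fun h => absurd ((h 2).2 two_a) two_c
  · exact key _ _ c3 c1 b3 b1 hr hr' fun h => absurd ((h 2).2 two_b) two_c
  · exact key _ _ c3 c1 c3 c1 hr hr' fun _ => rfl

end Copy

end Cfsg.Agent.Spor.AltNine.Top
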