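import Cfsg.Agent.Lib.Spor.AltNine.Top.Seven

/-!
The first four lists of candidates are complete.
-/

set_option autoImplicit false
set_option maxRecDepth 100000

namespace Cfsg.Agent.Spor.AltNine.Top

theorem cands_facts0 : ((sols [ts[0]]).all fun l =>
    !(mulL l l == idL && cntL l == 4) || (cands[0]).contains l) = true := by decide +kernel

theorem cands_facts1 : ((sols [ts[1]]).all fun l =>
    !(mulL l l == idL && cntL l == 4) || (cands[1]).contains l) = true := by decide +kernel

theorem cands_facts2 : ((sols [ts[2]]).all fun l =>
    !(mulL l l == idL && cntL l == 4) || (cands[2]).contains l) = true := by decide +kernel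

theorem cands_facts3 : ((sols [ts[3]]).all fun l =>
    !(mulL l l == idL && cntL l == 4) || (cands[3]).contains l) = true := by decide +kernel

end Cfsg.Agent.Spor.AltNine.Top
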