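import Cfsg.Agent.Lib.Spor.AltNine.Top.Model

/-!
Checked searches in small centralisers of permutations of nine points.
-/

set_option autoImplicit false
set_option maxRecDepth 100000
set_option synthInstance.maxSize 4000

namespace Cfsg.Agent.Spor.AltNine.Top

open Equiv

theorem cb_five : ∀ l ∈ sols ([pb].map img), ofL l ^ 5 = 1 → ofL l = 1 := by decide +kernel


theorem cc_two : ∀ l ∈ sols ([pc].map img),
    Equiv.Perm.sign (ofL l) = 1 → ofL l * ofL l = 1 → ofL l = 1 := by decide +kernel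


theorem cu_pa : ∀ l ∈ sols ([pu, pv, pa].map img), Equiv.Perm.sign (ofL l) = 1 →
    ∃ d ∈ ([1, pu, pv, pu * pv] : List P9), ∃ i : Fin 3, ofL l = d * pa ^ i.val := by decide +kernel


theorem ct_pd : ∀ l ∈ sols ([pt, pd].map img), Equiv.Perm.sign (ofL l) = 1 →
    ∃ d ∈ ([1, pt] : List P9), ∃ i : Fin 3, ofL l = d * pd ^ i.val := by decide +kernel


theorem cu1_px : ∀ l ∈ sols ([pu1, pv1, px].map img), Equiv.Perm.sign (ofL l) = 1 →
    ∃ d ∈ ([1, pu1, pv1, pu1 * pv1] : List P9), ∃ i : Fin 3, ofL l = d * px ^ i.val := by decide +kernel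


theorem cu1_exp : ∀ l ∈ sols ([pu1, pv1].map img), Equiv.Perm.sign (ofL l) = 1 → ofL l ^ 24 = 1 := by
  decide +kernel


theorem fix_four : ∀ l ∈ sols (([swap 0 1, swap 1 2, swap 2 3, swap 3 4] : List P9).map img),
    ofL l * ofL l = 1 → mv (ofL l) = 4 → ofL l ∈ ([pu, pv, pu * pv] : List P9) := by decide +kernel


theorem img_tu : ([pt, pu1].map img) = [[0, 2, 1, 4, 3, 6, 5, 8, 7], [0, 2, 1, 4, 3, 5, 6, 7, 8]] := by
  decide +kernel

theorem sols_tu : (sols [[0, 2, 1, 4, 3, 6, 5, 8, 7], [0, 2, 1, 4, 3, 5, 6, 7, 8]]).length = 64 ∧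
    (sols [[0, 2, 1, 4, 3, 6, 5, 8, 7], [0, 2, 1, 4, 3, 5, 6, 7, 8]]).Nodup := by
  decide +kernel

theorem sols_tu_comm : (sols [[0, 2, 1, 4, 3, 6, 5, 8, 7], [0, 2, 1, 4, 3, 5, 6, 7, 8]]).all (fun l =>
    img (ofL l) == l &&
      ([[0, 2, 1, 4, 3, 6, 5, 8, 7], [0, 2, 1, 4, 3, 5, 6, 7, 8]] : List (List (Fin 9))).all fun g =>
        mulL g l == mulL l g) = true := by
  decide +kernel

/-- The centraliser of two commuting involutions in the symmetric group has order sixty-four. -/
theorem card_tu : Nat.card (Subgroup.centralizer ({pt, pu1} : Set P9)) = 64 := by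
  classical
  obtain ⟨hn, hd⟩ := sols_tu
  have hs := List.all_eq_true.1 sols_tu_comm
  rw [← img_tu] at hn hd hs
  have hm : ∀ q : P9, q ∈ Subgroup.centralizer ({pt, pu1} : Set P9) ↔
      ∀ g ∈ [pt, pu1], g * q = q * g := fun q => by
    simp [Subgroup.mem_centralizer_iff]
  have e : Subgroup.centralizer ({pt, pu1} : Set P9) ≃ {l // l ∈ sols ([pt, pu1].map img)} :=
    { toFun := fun q => ⟨img q.1, mem_sols ((hm q.1).1 q.2)⟩
      invFun := fun l => ⟨ofL l.1, (hm _).2 fun g hg => by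
        have h := hs _ l.2
        simp only [Bool.and_eq_true, beq_iff_eq, List.all_eq_true] at h
        have h2 := h.2 (img g) (List.mem_map_of_mem hg)
        rw [← h.1, mulL_img, mulL_img] at h2
        exact img_inj h2⟩
      left_inv := fun q => Subtype.ext (ofL_img _)
      right_inv := fun l => Subtype.ext (by
        have h := hs _ l.2
        simp only [Bool.and_eq_true, beq_iff_eq] at h
        exact h.1) }
  rw [Nat.card_congr e, ← hn, ← List.toFinset_card_of_nodup hd, ← Nat.card_eq_finsetCard]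
  exact Nat.card_congr (Equiv.subtypeEquivRight fun l => List.mem_toFinset.symm)

end Cfsg.Agent.Spor.AltNine.Top
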