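import Mathlib.GroupTheory.SpecificGroups.Alternating
import Mathlib.GroupTheory.Perm.Fin
import Mathlib.Data.Fintype.Perm

/-!
Permutations of nine points as lists, and a checked search for the permutations commuting with given ones.
-/

set_option autoImplicit false

namespace Cfsg.Agent.Spor.AltNine.Top

/-- Permutations of nine points. -/
abbrev P9 : Type := Equiv.Perm (Fin 9)

/-- The list of images. -/
def img (p : P9) : List (Fin 9) := List.ofFn p

/-- The entry at a position. -/
def at' (l : List (Fin 9)) (i : Fin 9) : Fin 9 := l.getD i.val 0

theorem len_img (p : P9) : (img p).length = 9 := List.length_ofFn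

theorem get_img (p : P9) {j : ℕ} (hj : j < (img p).length) : (img p)[j] = p ⟨j, (len_img p).symm ▸ hj⟩ := by
  simp only [img, List.getElem_ofFn]

theorem at_img (p : P9) (i : Fin 9) : at' (img p) i = p i := by
  rw [at', List.getD, List.getElem?_eq_getElem (by rw [len_img]; exact i.isLt), Option.getD_some, get_img]

theorem img_inj : Function.Injective img := fun p q h =>
  Equiv.ext fun i => by rw [← at_img p i, h, at_img]

/-- A new value at position `k` is new and respects the generators. -/
def okStep (gens : List (List (Fin 9))) (l : List (Fin 9)) (v : Fin 9) : Bool :=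
  !(l.contains v) && gens.all fun g => (List.finRange 9).all fun i =>
    !(decide (i.val ≤ l.length) && decide ((at' g i).val ≤ l.length)) ||
      at' (l ++ [v]) (at' g i) == at' g (at' (l ++ [v]) i)

/-- The initial segments of the permutations commuting with the generators. -/
def build (gens : List (List (Fin 9))) : ℕ → List (List (Fin 9))
  | 0 => [[]]
  | k + 1 => (build gens k).flatMap fun l =>
      ((List.finRange 9).filter (okStep gens l)).map fun v => l ++ [v]

/-- The permutations commuting with the generators. -/
def sols (gens : List (List (Fin 9))) : List (List (Fin 9)) := build gens 9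

theorem take_img (p : P9) (i : Fin 9) {k : ℕ} (hi : i.val < k) : at' ((img p).take k) i = p i := by
  rw [← at_img p i, at', at', List.getD, List.getD, List.getElem?_take_of_lt hi]

theorem mem_build {gens : List P9} {p : P9} (h : ∀ g ∈ gens, g * p = p * g) :
    ∀ k ≤ 9, (img p).take k ∈ build (gens.map img) k
  | 0, _ => by simp [build]
  | k + 1, hk => by
    have hk' : k < 9 := hk
    have hlen : ((img p).take k).length = k := by rw [List.length_take, len_img]; omega
    have hstep : (img p).take (k + 1) = (img p).take k ++ [p ⟨k, hk'⟩] := by
      rw [List.take_succ_eq_append_getElem (by rw [len_img]; exact hk'), get_img]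
    rw [build, List.mem_flatMap]
    refine ⟨_, mem_build h k (by omega), ?_⟩
    rw [List.mem_map]
    refine ⟨p ⟨k, hk'⟩, ?_, hstep.symm⟩
    rw [List.mem_filter]
    refine ⟨List.mem_finRange _, ?_⟩
    rw [okStep, Bool.and_eq_true]
    refine ⟨?_, ?_⟩
    · simp only [Bool.not_eq_true', List.contains_eq_mem, decide_eq_false_iff_not]
      intro hmem
      obtain ⟨j, hj, hje⟩ := List.getElem_of_mem hmem
      rw [hlen] at hj
      have : p ⟨j, by omega⟩ = p ⟨k, hk'⟩ := by
        rw [← hje, List.getElem_take, get_img]
      have := congrArg Fin.val (p.injective this)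
      simp at this
      omega
    · refine List.all_eq_true.2 fun g' hg' => List.all_eq_true.2 fun i _ => ?_
      obtain ⟨g, hg, rfl⟩ := List.mem_map.1 hg'
      simp only [Bool.or_eq_true, Bool.not_eq_true', Bool.and_eq_false_iff, decide_eq_false_iff_not, beq_iff_eq,
        hlen, at_img]
      by_cases h1 : i.val ≤ k
      · by_cases h2 : (g i).val ≤ k
        · right
          rw [← hstep, take_img p i (by omega), take_img p (g i) (by omega)]
          exact (DFunLike.congr_fun (h g hg) i).symm
        · exact Or.inl (Or.inr h2)
      · exact Or.inl (Or.inl h1)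

theorem mem_sols {gens : List P9} {p : P9} (h : ∀ g ∈ gens, g * p = p * g) :
    img p ∈ sols (gens.map img) := by
  have := mem_build h 9 le_rfl
  rwa [List.take_of_length_le (len_img p).le] at this

/-- Position of a value. -/
def pre (l : List (Fin 9)) (v : Fin 9) : Fin 9 :=
  if h : l.idxOf v < 9 then ⟨l.idxOf v, h⟩ else 0

/-- The permutation with given images, or the identity. -/
def ofL (l : List (Fin 9)) : P9 :=
  if h : (∀ i, pre l (at' l i) = i) ∧ ∀ v, at' l (pre l v) = v then ⟨at' l, pre l, h.1, h.2⟩ else 1

theorem ofL_img (p : P9) : ofL (img p) = p := by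
  have h1 : ∀ i : Fin 9, pre (img p) (at' (img p) i) = i := fun i => by
    have hn : (img p).Nodup := List.nodup_ofFn.2 p.injective
    have : (img p).idxOf (p i) = i.val := by
      have hl : i.val < (img p).length := by rw [len_img]; exact i.isLt
      have := hn.idxOf_getElem i.val hl
      rwa [get_img] at this
    simp [pre, at_img, this]
  have h2 : ∀ v, at' (img p) (pre (img p) v) = v := fun v => by
    obtain ⟨i, rfl⟩ := p.surjective v
    have := h1 i
    rw [at_img] at this
    rw [this, at_img]
  rw [ofL, dif_pos ⟨h1, h2⟩]
  exact Equiv.ext fun i => at_img p i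

end Cfsg.Agent.Spor.AltNine.Top
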