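import Cfsg.Agent.S3331
import Cfsg.Agent.Lib.Lie.PSpFourThreeAmalgam.NoFive
import Mathlib.GroupTheory.Nilpotent
import Mathlib.GroupTheory.SpecificGroups.Alternating.Simple

/-!
A group with a central two-subgroup modulo which an element of order three is self-centralising.
-/

set_option autoImplicit false
set_option linter.unusedSectionVars false

namespace Cfsg.Agent.Spor.AltNine.Top

/-- The largest normal subgroup of order prime to three. -/
def IsBig {M : Type*} [Group M] (N : Subgroup M) : Prop :=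
  ∀ L : Subgroup M, L.Normal → (Nat.card L).Coprime 3 → L ≤ N

theorem isBig_of_five {M : Type*} [Group M] [Finite M] (N : Subgroup M) [N.Normal]
    (e : M ⧸ N ≃* alternatingGroup (Fin 5)) : IsBig N := by
  intro L hL hco
  haveI : IsSimpleGroup (alternatingGroup (Fin 5)) := alternatingGroup.isSimpleGroup_five
  let f : M →* alternatingGroup (Fin 5) := e.toMonoidHom.comp (QuotientGroup.mk' N)
  have hf : Function.Surjective f := e.surjective.comp (QuotientGroup.mk'_surjective N)
  haveI : (L.map f).Normal := hL.map f hf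
  rcases (inferInstance : (L.map f).Normal).eq_bot_or_eq_top with h | h
  · intro x hx
    have h1 : f x = 1 := Subgroup.mem_bot.1 (h ▸ Subgroup.mem_map_of_mem f hx)
    exact (QuotientGroup.eq_one_iff x).1 (e.injective (h1.trans (map_one e).symm))
  · exfalso
    have h1 := Subgroup.card_map_dvd L f
    rw [h, Subgroup.card_top, nat_card_alternatingGroup, Nat.card_fin,
      show Nat.factorial 5 / 2 = 60 from rfl] at h1
    have h3 : 3 ∣ Nat.gcd (Nat.card L) 3 := Nat.dvd_gcd ((by norm_num : 3 ∣ 60).trans h1) dvd_rfl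
    rw [hco.gcd_eq_one] at h3
    norm_num at h3

theorem local_cases {M : Type*} [Group M] [Finite M] (D : Subgroup M) (hD : IsPGroup 2 D)
    (hDc : D ≤ Subgroup.center M) {e : M} (he : e ^ 3 = 1) (he1 : e ≠ 1)
    (hCe : ∀ x, x * e = e * x → ∃ d ∈ D, ∃ i : ℕ, x = d * e ^ i) :
    (∃ (N : Subgroup M) (_ : N.Normal), IsBig N ∧ (Nat.card N).Coprime 3 ∧ Group.IsNilpotent N ∧
      (Nat.card (M ⧸ N) = 3 ∨ Nonempty (M ⧸ N ≃* Equiv.Perm (Fin 3)))) ∨
    (∃ (N : Subgroup M) (_ : N.Normal), IsBig N ∧ IsPGroup 2 N ∧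
      Nonempty (M ⧸ N ≃* alternatingGroup (Fin 5))) ∨
    Nat.card M = 168 * Nat.card D := by
  haveI : Fact (Nat.Prime 3) := ⟨Nat.prime_three⟩
  haveI : Fact (Nat.Prime 2) := ⟨Nat.prime_two⟩
  obtain ⟨k, hk⟩ := IsPGroup.iff_card.1 hD
  haveI : D.Normal := ⟨fun x hx g => by
    rwa [Subgroup.mem_center_iff.1 (hDc hx) g, mul_inv_cancel_right]⟩
  have hdk : ∀ d ∈ D, d ^ (2 ^ k) = 1 := fun d hd => by
    have := congrArg Subtype.val (pow_card_eq_one' (G := D) (x := ⟨d, hd⟩))
    rwa [hk, SubgroupClass.coe_pow] at this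
  have htriv : ∀ d ∈ D, d ^ 3 = 1 → d = 1 := fun d hd h3 => by
    have := pow_gcd_eq_one.mpr ⟨h3, hdk d hd⟩
    rwa [Nat.Coprime.gcd_eq_one (Nat.Coprime.pow_right _ (by norm_num)), pow_one] at this
  obtain ⟨z, hzdef⟩ : ∃ z : M ⧸ D, z = (e : M ⧸ D) := ⟨_, rfl⟩
  have hz : z ^ 3 = 1 := by rw [hzdef, ← QuotientGroup.mk_pow, he, QuotientGroup.mk_one]
  have hz1 : z ≠ 1 := fun h => by
    rw [hzdef, QuotientGroup.eq_one_iff] at h
    exact he1 (htriv e h he)
  have hC : ∀ g : M ⧸ D, g * z = z * g → g ∈ Subgroup.zpowers z := by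
    intro g hg
    induction g using QuotientGroup.induction_on with
    | H x =>
      rw [hzdef, ← QuotientGroup.mk_mul, ← QuotientGroup.mk_mul, QuotientGroup.eq] at hg
      set d := (x * e)⁻¹ * (e * x) with hd
      have hc : ∀ g : M, g * d = d * g := fun g => Subgroup.mem_center_iff.1 (hDc hg) g
      have hxe : x * e * d = e * x := by rw [hd]; group
      have h2 : e * d⁻¹ = x * e * x⁻¹ := by
        have h4 : x * e * x⁻¹ * d = e := by
          calc x * e * x⁻¹ * d = x * e * (x⁻¹ * d) := by group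
            _ = x * e * (d * x⁻¹) := by rw [hc x⁻¹]
            _ = x * e * d * x⁻¹ := by group
            _ = e := by rw [hxe]; group
        conv_lhs => rw [← h4]
        group
      have h3 : (e * d⁻¹) ^ 3 = 1 := by rw [h2, conj_pow, he]; group
      rw [((show Commute e d from hc e).inv_right).mul_pow, he, one_mul, inv_pow, inv_eq_one] at h3
      rw [htriv d hg h3, mul_one] at hxe
      obtain ⟨d', hd', i, hi⟩ := hCe x hxe
      refine ⟨(i : ℤ), ?_⟩
      show z ^ (i : ℤ) = _
      rw [zpow_natCast, hzdef, ← QuotientGroup.mk_pow, QuotientGroup.eq, hi,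
        ← Subgroup.mem_center_iff.1 (hDc hd') (e ^ i), inv_mul_cancel_left]
      exact hd'
  have hzc : Nat.card (Subgroup.zpowers z) = 3 := by rw [Nat.card_zpowers, orderOf_eq_prime hz hz1]
  have hC' : Subgroup.centralizer (Subgroup.zpowers z : Set (M ⧸ D)) = Subgroup.zpowers z := by
    refine le_antisymm (fun g hg => hC g (Subgroup.mem_centralizer_iff.1 hg z (Subgroup.mem_zpowers z)).symm)
      fun g hg => Subgroup.mem_centralizer_iff.2 fun h hh => ?_
    obtain ⟨a, rfl⟩ := Subgroup.mem_zpowers_iff.1 hh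
    obtain ⟨b, rfl⟩ := Subgroup.mem_zpowers_iff.1 hg
    exact ((Commute.refl z).zpow_zpow a b).eq
  rcases Cfsg.Agent.S3331.result (Subgroup.zpowers z) hzc hC' with
    ⟨Nb, hNb, hnil, hco, hq⟩ | ⟨Nb, hNb, -, hN2, ⟨eqv⟩⟩ | ⟨⟨eqv⟩⟩
  rotate_right
  · refine Or.inr (Or.inr ?_)
    rw [Subgroup.card_eq_card_quotient_mul_card_subgroup D, Nat.card_congr eqv.toEquiv,
      Lie.PSpFourThreeAmalgam.card_psl_seven]
  all_goals
    let f : M →* (M ⧸ D) ⧸ Nb := (QuotientGroup.mk' Nb).comp (QuotientGroup.mk' D)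
    have hf : Function.Surjective f := (QuotientGroup.mk'_surjective Nb).comp (QuotientGroup.mk'_surjective D)
    have hmem : ∀ x : M, x ∈ f.ker ↔ (x : M ⧸ D) ∈ Nb := fun x => by
      rw [MonoidHom.mem_ker]; exact QuotientGroup.eq_one_iff _
    have hDN : D ≤ f.ker := fun x hx => (hmem x).2 (by
      rw [(QuotientGroup.eq_one_iff x).2 hx]; exact Nb.one_mem)
    let g : f.ker →* Nb := ((QuotientGroup.mk' D).comp f.ker.subtype).codRestrict Nb fun x => (hmem _).1 x.2
    have hgs : Function.Surjective g := fun x => by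
      obtain ⟨y, hy⟩ := QuotientGroup.mk'_surjective D x.1
      exact ⟨⟨y, (hmem y).2 (by rw [← QuotientGroup.mk'_apply, hy]; exact x.2)⟩, Subtype.ext hy⟩
    have hgk : g.ker = D.subgroupOf f.ker := by
      ext x
      rw [MonoidHom.mem_ker, Subgroup.mem_subgroupOf, ← QuotientGroup.eq_one_iff]
      exact ⟨fun h => congrArg Subtype.val h, fun h => Subtype.ext h⟩
    have hcard : Nat.card f.ker = Nat.card Nb * 2 ^ k := by
      rw [Subgroup.card_eq_card_quotient_mul_card_subgroup g.ker,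
        Nat.card_congr (QuotientGroup.quotientKerEquivOfSurjective g hgs).toEquiv, hgk,
        Nat.card_congr (Subgroup.subgroupOfEquivOfLe hDN).toEquiv, hk]
    have Q := QuotientGroup.quotientKerEquivOfSurjective f hf
  · refine Or.inl ⟨f.ker, inferInstance, ?_, ?_, ?_, ?_⟩
    · have hq' : Nat.card (M ⧸ f.ker) = 3 ∨ Nonempty (M ⧸ f.ker ≃* Equiv.Perm (Fin 3)) :=
        hq.imp (fun h => (Nat.card_congr Q.toEquiv).trans h) fun ⟨q⟩ => ⟨Q.trans q⟩
      intro L hL hLc
      haveI := hL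
      exact Lie.PSpFourThreeAmalgam.le_of_small_quotient hq' hLc
    · rw [hcard]; exact Nat.Coprime.mul_left hco (Nat.Coprime.pow_left _ (by norm_num))
    · haveI := hnil
      exact Subgroup.isNilpotent_of_ker_le_center g (fun x hx => by
        rw [hgk, Subgroup.mem_subgroupOf] at hx
        exact Subgroup.mem_center_iff.2 fun w => Subtype.ext (Subgroup.mem_center_iff.1 (hDc hx) w.1))
    · exact hq.imp (fun h => (Nat.card_congr Q.toEquiv).trans h) fun ⟨q⟩ => ⟨Q.trans q⟩
  · refine Or.inr (Or.inl ⟨f.ker, inferInstance, isBig_of_five _ (Q.trans eqv), ?_, ⟨Q.trans eqv⟩⟩)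
    obtain ⟨j, hj⟩ := IsPGroup.iff_card.1 (show IsPGroup 2 Nb from fun g =>
      ⟨1, Subtype.ext (by rw [SubgroupClass.coe_pow, pow_one]; exact hN2 g g.2)⟩)
    exact IsPGroup.of_card (n := j + k) (by rw [hcard, hj, pow_add])

end Cfsg.Agent.Spor.AltNine.Top
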