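import Cfsg.Agent.Lib.Spor.AltNine.Top.Base
import Cfsg.Agent.Lib.Spor.AltNine.Top.Local
import Cfsg.Agent.Lib.Solv.Generation

/-!
The centraliser of the image of two commuting involutions, its invariance and the generation argument.
-/

set_option autoImplicit false
set_option linter.unusedSectionVars false

namespace Cfsg.Agent.Spor.AltNine.Top

/-- Two commuting elements of order three generate a group of order nine. -/
theorem nine {H : Type*} [Group H] {x y : H} (hx : x ^ 3 = 1) (hx1 : x ≠ 1) (hy : y ^ 3 = 1) (hy1 : y ≠ 1)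
    (hc : x * y = y * x) (hne : ∀ i : ℕ, y ≠ x ^ i) :
    ∃ E : Subgroup H, Nat.card E = 9 ∧ x ∈ E ∧ y ∈ E ∧ (∀ a ∈ E, ∀ b ∈ E, a * b = b * a) ∧
      (∀ a ∈ E, a ^ 3 = 1) ∧ ∀ S : Subgroup H, x ∈ S → y ∈ S → E ≤ S := by
  haveI : Fact (Nat.Prime 3) := ⟨Nat.prime_three⟩
  have comm : ∀ (a : Subgroup.zpowers x) (b : Subgroup.zpowers y), Commute (a : H) b := by
    rintro ⟨a, i, rfl⟩ ⟨b, j, rfl⟩
    exact (show Commute x y from hc).zpow_zpow i j
  let φ := MonoidHom.noncommCoprod (Subgroup.zpowers x).subtype (Subgroup.zpowers y).subtype comm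
  have hox : orderOf x = 3 := orderOf_eq_prime hx hx1
  have hoy : orderOf y = 3 := orderOf_eq_prime hy hy1
  have hφ : Function.Injective φ := by
    rw [injective_iff_map_eq_one]
    rintro ⟨⟨a, ha⟩, ⟨b, hb⟩⟩ h
    have h1 : a * b = 1 := h
    haveI : Finite (Subgroup.zpowers x) := Nat.finite_of_card_ne_zero (by rw [Nat.card_zpowers, hox]; norm_num)
    have hb1 : b = 1 := by
      by_contra hb1
      have hb2 : b ∈ Subgroup.zpowers x := eq_inv_of_mul_eq_one_right h1 ▸ Subgroup.inv_mem _ ha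
      haveI : Finite (Subgroup.zpowers y) := Nat.finite_of_card_ne_zero (by rw [Nat.card_zpowers, hoy]; norm_num)
      have hdvd : Nat.card (Subgroup.zpowers x ⊓ Subgroup.zpowers y : Subgroup H) ∣ 3 := by
        have h3 := Subgroup.card_dvd_of_le (inf_le_right : Subgroup.zpowers x ⊓ Subgroup.zpowers y ≤ Subgroup.zpowers y)
        rwa [Nat.card_zpowers, hoy] at h3
      have hy3 : y ∈ Subgroup.zpowers x := by
        rcases (Nat.dvd_prime Nat.prime_three).1 hdvd with h3 | h3
        · have h4 : b ∈ Subgroup.zpowers x ⊓ Subgroup.zpowers y := ⟨hb2, hb⟩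
          rw [Subgroup.card_eq_one] at h3
          rw [h3, Subgroup.mem_bot] at h4
          exact absurd h4 hb1
        · have h4 : Subgroup.zpowers x ⊓ Subgroup.zpowers y = Subgroup.zpowers y :=
            Subgroup.eq_of_le_of_card_ge inf_le_right (by rw [h3, Nat.card_zpowers, hoy])
          exact (h4.ge (Subgroup.mem_zpowers y)).1
      obtain ⟨i, hi⟩ := (IsOfFinOrder.mem_powers_iff_mem_zpowers (isOfFinOrder_iff_pow_eq_one.2 ⟨3, by norm_num, hx⟩)).2 hy3
      exact hne i hi.symm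
    rw [hb1, mul_one] at h1
    exact Prod.ext (Subtype.ext h1) (Subtype.ext hb1)
  have hmem : ∀ a ∈ φ.range, ∃ i j : ℤ, a = x ^ i * y ^ j := by
    rintro _ ⟨⟨⟨a, i, rfl⟩, ⟨b, j, rfl⟩⟩, rfl⟩
    exact ⟨i, j, rfl⟩
  refine ⟨φ.range, ?_, ⟨(⟨x, Subgroup.mem_zpowers x⟩, 1), mul_one x⟩, ⟨(1, ⟨y, Subgroup.mem_zpowers y⟩), one_mul y⟩,
    ?_, ?_, ?_⟩
  · rw [← Nat.card_congr (MonoidHom.ofInjective hφ).toEquiv, Nat.card_prod, Nat.card_zpowers, Nat.card_zpowers,
      hox, hoy]
  · intro a ha b hb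
    obtain ⟨i, j, rfl⟩ := hmem a ha
    obtain ⟨k, l, rfl⟩ := hmem b hb
    have c : Commute x y := hc
    exact (((Commute.refl x).zpow_zpow i k).mul_right (c.zpow_zpow i l)).mul_left
      (((c.symm).zpow_zpow j k).mul_right ((Commute.refl y).zpow_zpow j l))
  · intro a ha
    obtain ⟨i, j, rfl⟩ := hmem a ha
    rw [((show Commute x y from hc).zpow_zpow i j).mul_pow, ← zpow_natCast, ← zpow_natCast (y ^ j), ← zpow_mul,
      ← zpow_mul, mul_comm i, mul_comm j, zpow_mul, zpow_mul, zpow_natCast, zpow_natCast, hx, hy, one_zpow,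
      one_zpow, one_mul]
  · intro S hxS hyS a ha
    obtain ⟨i, j, rfl⟩ := hmem a ha
    exact S.mul_mem (S.zpow_mem hxS i) (S.zpow_mem hyS j)

/-- The four-group spanned by two commuting involutions. -/
theorem pair_mem {H : Type*} [Group H] {u v : H} (hu : u * u = 1) (hv : v * v = 1) (huv : u * v = v * u)
    {d : H} (hd : d ∈ Subgroup.closure ({u, v} : Set H)) :
    d = 1 ∨ d = u ∨ d = v ∨ d = u * v := by
  have e1 : ∀ a, u * (u * a) = a := fun a => by rw [← mul_assoc, hu, one_mul]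
  have e2 : ∀ a, v * (v * a) = a := fun a => by rw [← mul_assoc, hv, one_mul]
  have e3 : ∀ a, v * (u * a) = u * (v * a) := fun a => by rw [← mul_assoc, ← huv, mul_assoc]
  induction hd using Subgroup.closure_induction with
  | mem x hx => rcases hx with rfl | rfl <;> simp
  | one => simp
  | mul x y _ _ hx hy =>
    rcases hx with rfl | rfl | rfl | rfl <;> rcases hy with rfl | rfl | rfl | rfl <;>
      simp [mul_assoc, hu, hv, e1, e2, e3, ← huv]
  | inv x _ hx =>
    rcases hx with rfl | rfl | rfl | rfl <;>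
      simp [inv_eq_of_mul_eq_one_right hu, inv_eq_of_mul_eq_one_right hv, huv]

namespace Copy

variable {G : Type*} [Group G] [Finite G] (c : Copy G)

/-- The centraliser of two elements of the copy. -/
def cen (u v : A9) : Subgroup G :=
  Subgroup.centralizer (((Subgroup.closure ({u, v} : Set A9)).map c.Ψ : Subgroup G) : Set G)

theorem mem_cen {u v : A9} {g : G} : g ∈ c.cen u v ↔ g * c.Ψ u = c.Ψ u * g ∧ g * c.Ψ v = c.Ψ v * g := by
  rw [cen, MonoidHom.map_closure, Set.image_pair, Subgroup.centralizer_closure]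
  simp only [Subgroup.mem_centralizer_iff, Set.mem_insert_iff, Set.mem_singleton_iff, forall_eq_or_imp, forall_eq]
  exact ⟨fun h => ⟨h.1.symm, h.2.symm⟩, fun h => ⟨h.1.symm, h.2.symm⟩⟩

theorem psi_mem_cen {u v y : A9} (h : y * u = u * y) (h' : y * v = v * y) : c.Ψ y ∈ c.cen u v := by
  rw [mem_cen, ← map_mul, ← map_mul, ← map_mul, ← map_mul, h, h']
  exact ⟨rfl, rfl⟩

theorem psi_norm_cen {u v y : A9} (h : y * u * y⁻¹ ∈ Subgroup.closure ({u, v} : Set A9))
    (h' : y * v * y⁻¹ ∈ Subgroup.closure ({u, v} : Set A9)) :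
    c.Ψ y ∈ Subgroup.normalizer (c.cen u v : Set G) := by
  set D := (Subgroup.closure ({u, v} : Set A9)).map c.Ψ with hD
  have hle : D.map (MulAut.conj (c.Ψ y)).toMonoidHom ≤ D := by
    rw [hD, MonoidHom.map_closure, Set.image_pair, MonoidHom.map_closure, Set.image_pair, Subgroup.closure_le]
    rintro _ (rfl | rfl)
    · have := Subgroup.mem_map_of_mem c.Ψ h
      rw [MonoidHom.map_closure, Set.image_pair] at this
      simpa using this
    · have := Subgroup.mem_map_of_mem c.Ψ h'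
      rw [MonoidHom.map_closure, Set.image_pair] at this
      simpa using this
  have heq := Subgroup.eq_of_le_of_card_ge hle
    (by rw [Subgroup.card_map_of_injective (f := (MulAut.conj (c.Ψ y)).toMonoidHom) (MulAut.conj (c.Ψ y)).injective])
  have key : ∀ g, g ∈ c.cen u v ↔ c.Ψ y * g * (c.Ψ y)⁻¹ ∈ c.cen u v := by
    intro g
    simp only [cen, ← hD, Subgroup.mem_centralizer_iff]
    constructor
    · intro hg d hd
      have hd' : d ∈ D.map (MulAut.conj (c.Ψ y)).toMonoidHom := heq.symm ▸ hd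
      obtain ⟨d, hd', rfl⟩ := hd'
      simp only [MulEquiv.coe_toMonoidHom, MulAut.conj_apply]
      calc c.Ψ y * d * (c.Ψ y)⁻¹ * (c.Ψ y * g * (c.Ψ y)⁻¹) = c.Ψ y * (d * g) * (c.Ψ y)⁻¹ := by group
        _ = c.Ψ y * (g * d) * (c.Ψ y)⁻¹ := by rw [hg d hd']
        _ = _ := by group
    · intro hg d hd
      have h1 := hg _ (hle (Subgroup.mem_map_of_mem _ hd))
      simp only [MulEquiv.coe_toMonoidHom, MulAut.conj_apply] at h1
      calc d * g = (c.Ψ y)⁻¹ * (c.Ψ y * d * (c.Ψ y)⁻¹ * (c.Ψ y * g * (c.Ψ y)⁻¹)) * c.Ψ y := by group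
        _ = _ := by rw [h1]; group
  exact Subgroup.mem_normalizer_iff.2 key

/-- The data of the local argument. -/
theorem cen_local {u v : A9} (hu : u * u = 1) (hv : v * v = 1) (huv : u * v = v * u) :
    ∃ D : Subgroup (c.cen u v), IsPGroup 2 D ∧ D ≤ Subgroup.center (c.cen u v) ∧
      (∀ (x : c.cen u v) (d : A9), d ∈ Subgroup.closure ({u, v} : Set A9) → (x : G) = c.Ψ d → x ∈ D) ∧
      Nat.card D = Nat.card (Subgroup.closure ({u, v} : Set A9)) := by
  set D₀ := (Subgroup.closure ({u, v} : Set A9)).map c.Ψ with hD₀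
  have hle : D₀ ≤ c.cen u v := by
    intro x hx
    obtain ⟨d, hd, rfl⟩ := hx
    rcases pair_mem hu hv huv hd with rfl | rfl | rfl | rfl
    · rw [map_one]; exact one_mem _
    · exact c.psi_mem_cen rfl huv
    · exact c.psi_mem_cen huv.symm rfl
    · exact c.psi_mem_cen (by rw [mul_assoc, ← huv]) (by rw [← mul_assoc, ← huv, mul_assoc])
  refine ⟨D₀.subgroupOf _, ?_, ?_, ?_, ?_⟩
  · intro x
    refine ⟨1, Subtype.ext (Subtype.ext ?_)⟩
    obtain ⟨d, hd, he⟩ := Subgroup.mem_subgroupOf.1 x.2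
    have h2 : d ^ 2 = 1 := by
      rw [pow_two]
      rcases pair_mem hu hv huv hd with rfl | rfl | rfl | rfl
      exacts [one_mul 1, hu, hv, by rw [mul_assoc, ← mul_assoc v, ← huv, mul_assoc, hv, mul_one, hu]]
    simp only [SubgroupClass.coe_pow, pow_one, Subgroup.coe_one, ← he, ← map_pow, h2, map_one]
  · intro x hx
    refine Subgroup.mem_center_iff.2 fun g => Subtype.ext ?_
    have hg := g.2
    simp only [cen, Subgroup.mem_centralizer_iff] at hg
    exact (hg _ (Subgroup.mem_subgroupOf.1 hx)).symm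
  · intro x d hd hx
    rw [Subgroup.mem_subgroupOf, hx]
    exact Subgroup.mem_map_of_mem _ hd
  · rw [Nat.card_congr (Subgroup.subgroupOfEquivOfLe hle).toEquiv, hD₀, Subgroup.card_map_of_injective c.inj]

/-- The largest normal subgroup of order prime to three is invariant under the normaliser. -/
theorem big_normalizer {M : Subgroup G} {N : Subgroup M} (hN : N.Normal) (hbig : IsBig N)
    (hco : (Nat.card N).Coprime 3) {y : G} (hy : y ∈ Subgroup.normalizer (M : Set G)) :
    y ∈ Subgroup.normalizer ((N.map M.subtype : Subgroup G) : Set G) := by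
  rw [Subgroup.mem_normalizer_iff_map_conj_eq]
  refine Subgroup.eq_of_le_of_card_ge ?_
    (le_of_eq (Subgroup.card_map_of_injective (f := (MulAut.conj y).toMonoidHom) (MulAut.conj y).injective).symm)
  rintro _ ⟨_, ⟨x, hx, rfl⟩, rfl⟩
  let α : MulAut M := Subgroup.normalizerMonoidHom M ⟨y, hy⟩
  haveI : (N.map α.toMonoidHom).Normal := hN.map _ α.surjective
  exact ⟨α x, hbig (N.map α.toMonoidHom) inferInstance
    (by rwa [Subgroup.card_map_of_injective (f := α.toMonoidHom) α.injective]) (Subgroup.mem_map_of_mem _ hx), rfl⟩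

/-- Generation by the centralisers of the elements of a group of order nine. -/
theorem gen_le (E : Subgroup A9) (hEc : ∀ a ∈ E, ∀ b ∈ E, a * b = b * a) (hE3 : ∀ a ∈ E, a ^ 3 = 1)
    (hcard : Nat.card E = 9) (N : Subgroup G) (hnorm : ∀ a ∈ E, c.Ψ a ∈ Subgroup.normalizer (N : Set G))
    (hco : (Nat.card N).Coprime 3) : N ≤ c.K := by
  haveI : Fact (Nat.Prime 3) := ⟨Nat.prime_three⟩
  set A := E.map c.Ψ with hA
  have hAc : IsMulCommutative A := ⟨⟨fun a b => Subtype.ext (by
    obtain ⟨a', ha', hae⟩ := a.2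
    obtain ⟨b', hb', hbe⟩ := b.2
    show (a : G) * b = b * a
    rw [← hae, ← hbe, ← map_mul, ← map_mul, hEc a' ha' b' hb'])⟩⟩
  have hAN : A ≤ Subgroup.normalizer (N : Set G) := by
    rintro _ ⟨a, ha, rfl⟩; exact hnorm a ha
  have hAcard : Nat.card A = 9 := by rw [hA, Subgroup.card_map_of_injective c.inj, hcard]
  have hcop : (Nat.card A).Coprime (Nat.card N) := by
    rw [hAcard, show 9 = 3 ^ 2 from rfl]; exact hco.symm.pow_left _
  intro x hx
  rw [← Solv.gen_eq A N hAc hAN hcop] at hx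
  refine (iSup₂_le (fun B hB => ?_) : (⨆ B ∈ Solv.CycQuot A, N ⊓ Subgroup.centralizer (B : Set G)) ≤ c.K) hx
  obtain ⟨hBA, a, ha, hBa⟩ := hB
  have hB : B ≠ ⊥ := fun h0 => by
    rw [h0, bot_sup_eq] at hBa
    obtain ⟨a', ha', rfl⟩ := ha
    have h1 : Nat.card (Subgroup.zpowers (c.Ψ a')) ∣ 3 := by
      rw [Nat.card_zpowers]
      exact orderOf_dvd_of_pow_eq_one (by rw [← map_pow, hE3 a' ha', map_one])
    rw [hBa, hAcard] at h1
    norm_num at h1
  obtain ⟨b, hb, hb1⟩ : ∃ b ∈ B, b ≠ 1 := (B.ne_bot_iff_exists_ne_one.1 hB).elim fun b hb =>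
    ⟨b, b.2, fun h => hb (Subtype.ext h)⟩
  obtain ⟨b', hb', rfl⟩ := hBA hb
  intro g hg
  exact c.cent (hE3 b' hb') (fun h => hb1 (by rw [h, map_one]))
    (Subgroup.mem_centralizer_iff.1 hg.2 _ hb).symm

end Copy

end Cfsg.Agent.Spor.AltNine.Top
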