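import Cfsg.Agent.Lib.Spor.AltNine.Top.Klein
import Cfsg.Agent.Lib.Solv.Engel

/-!
The two classes of involutions are not fused, pairs of double transpositions control conjugation, and the
centraliser of a product of four transpositions lies in the copy.
-/

set_option autoImplicit false
set_option maxRecDepth 100000
set_option linter.unusedSectionVars false

namespace Cfsg.Agent.Spor.AltNine.Top

theorem mv_pd_pow : ∀ i : Fin 3, mv (pd ^ i.val) ≠ 3 := by decide +kernel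

theorem pt_facts : mv pt = 8 ∧ mv pu = 4 ∧ mv pu1 = 4 ∧ mv pv1 = 4 ∧ mv (pu1 * pv1) = 4 ∧ (pu1 * pr) ^ 4 = 1 ∧
    (pu1 * pv1 * pr) ^ 4 = 1 ∧ pt * pu1 = pu1 * pt ∧ pt * pv1 = pv1 * pt ∧ pt * pt = 1 ∧ pt ≠ 1 ∧ mv pa = 3 := by
  obtain ⟨f1, -, f3, f4, f5, f6, f7, f8, f9, f10, f11, -, -, -, -, -, -, -, -, -, -, -, -, -, -, f26, -, -, -, -, -, f32, -⟩ :=
    gen_facts
  exact ⟨f4, f3, f5, f6, f7, f8, f9, f10, f11, f32, f26, f1⟩

theorem mv_one : mv (1 : P9) = 0 := by simp [mv]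

/-- A double transposition. -/
def T2 (x : A9) : Prop := x * x = 1 ∧ mv (x : P9) = 4

theorem T2.ne_one {x : A9} (h : T2 x) : x ≠ 1 := fun e => by
  have := h.2
  rw [e, Subgroup.coe_one, mv_one] at this
  norm_num at this

theorem involution_cases {x : A9} (h2 : x * x = 1) (h1 : x ≠ 1) :
    (T2 x ∧ ∃ σ : A9, σ * x * σ⁻¹ = eu) ∨ (mv (x : P9) = 8 ∧ ∃ σ : A9, σ * x * σ⁻¹ = et) := by
  obtain ⟨σ, ⟨hσ, hm⟩ | ⟨hσ, hm⟩⟩ := two_classes (sgn x) (congrArg Subtype.val h2)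
    (fun h => h1 (Subtype.ext h))
  · exact Or.inl ⟨⟨h2, hm⟩, σ, Subtype.ext hσ⟩
  · exact Or.inr ⟨hm, σ, Subtype.ext hσ⟩

theorem prime_dvd_24 {p : ℕ} (hp : p.Prime) (h : p ∣ 24) : p = 2 ∨ p = 3 := by
  have h2 : p ∣ 2 ^ 3 * 3 := h
  rcases hp.dvd_mul.1 h2 with h | h
  · exact Or.inl ((Nat.prime_dvd_prime_iff_eq hp Nat.prime_two).1 (hp.dvd_of_dvd_pow h))
  · exact Or.inr ((Nat.prime_dvd_prime_iff_eq hp Nat.prime_three).1 h)

namespace Copy

variable {G : Type*} [Group G] [Finite G] (c : Copy G)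

theorem ct_elem {y : A9} (ht : y * et = et * y) (hd : y * ed = ed * y) :
    ∃ d : A9, (d = 1 ∨ d = et) ∧ ∃ i : Fin 3, y = d * ed ^ i.val := by
  obtain ⟨d, hd', i, hdi⟩ := of_comm [pt, pd]
    (fun q => Equiv.Perm.sign q = 1 → ∃ d ∈ ([1, pt] : List P9), ∃ i : Fin 3, q = d * pd ^ i.val)
    ct_pd (p := (y : P9)) (by
      intro g hg
      simp only [List.mem_cons, List.not_mem_nil, or_false] at hg
      rcases hg with rfl | rfl
      exacts [congrArg Subtype.val ht.symm, congrArg Subtype.val hd.symm]) (sgn y)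
  simp only [List.mem_cons, List.not_mem_nil, or_false] at hd'
  rcases hd' with rfl | rfl
  · exact ⟨1, Or.inl rfl, i, Subtype.ext (by rw [Subgroup.coe_mul, SubgroupClass.coe_pow]; exact hdi)⟩
  · exact ⟨et, Or.inr rfl, i, Subtype.ext (by rw [Subgroup.coe_mul, SubgroupClass.coe_pow]; exact hdi)⟩

theorem et_sq : et * et = 1 := Subtype.ext pt_facts.2.2.2.2.2.2.2.2.2.1

theorem ed_cube : ed ^ 3 = 1 ∧ ed ≠ 1 ∧ ed * et = et * ed :=
  ⟨Subtype.ext small_facts.2.2.2.1.2.2.1, fun h => small_facts.2.2.2.1.2.2.2.1 (congrArg Subtype.val h),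
    Subtype.ext small_facts.2.2.2.1.1.symm⟩

/-- (C) the two classes of involutions are not fused. -/
theorem not_fused (g : G) : g * c.Ψ eu * g⁻¹ ≠ c.Ψ et := by
  intro hg
  haveI : Fact (Nat.Prime 3) := ⟨Nat.prime_three⟩
  obtain ⟨hd3, hd1, hdt⟩ := ed_cube
  obtain ⟨ha3, ha1, -⟩ := rep_cube
  set Mt := Subgroup.centralizer ({c.Ψ et} : Set G) with hMt
  have hdM : c.Ψ ed ∈ Mt := by
    rw [hMt, Subgroup.mem_centralizer_singleton_iff, ← map_mul, ← map_mul, hdt]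
  set e : Mt := ⟨c.Ψ ed, hdM⟩ with he
  have he3 : e ^ 3 = 1 := Subtype.ext (by
    show c.Ψ ed ^ 3 = 1
    rw [← map_pow, hd3, map_one])
  have he1 : e ≠ 1 := fun h => hd1 (c.psi_eq_one (congrArg Subtype.val h))
  have key : ∀ p : Mt, p * e = e * p → (∃ k, p ^ 3 ^ k = 1) → p ∈ Subgroup.zpowers e := by
    intro p hpe hpk
    obtain ⟨k, hk⟩ := hpk
    have hpe' : (p : G) * c.Ψ ed = c.Ψ ed * p := congrArg Subtype.val hpe
    obtain ⟨y, hy⟩ := c.cent hd3 hd1 hpe'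
    have hpt : (p : G) * c.Ψ et = c.Ψ et * p := Subgroup.mem_centralizer_singleton_iff.1 p.2
    rw [← hy, ← map_mul, ← map_mul] at hpt hpe'
    obtain ⟨d, hd, i, hdi⟩ := ct_elem (c.inj hpt) (c.inj hpe')
    rcases hd with rfl | rfl
    · refine ⟨(i.val : ℤ), Subtype.ext ?_⟩
      show ((e ^ (i.val : ℤ) : Mt) : G) = p
      rw [zpow_natCast, SubgroupClass.coe_pow, ← hy, hdi, one_mul, map_pow]
    · exfalso
      have hyk : y ^ 3 ^ k = 1 := c.psi_eq_one (by
        rw [map_pow, hy, ← SubgroupClass.coe_pow, hk]; rfl)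
      have hcomm : Commute et (ed ^ i.val) := (show Commute et ed from hdt.symm).pow_right _
      rw [hdi, hcomm.mul_pow] at hyk
      have hodd : Odd (3 ^ k) := (by decide : Odd 3).pow
      have het : et ^ 3 ^ k = et := by
        obtain ⟨m, hm⟩ := hodd
        rw [hm, pow_succ, pow_mul, pow_two, et_sq, one_pow, one_mul]
      rw [het] at hyk
      have h3 : ((ed ^ i.val) ^ 3 ^ k) ^ 3 = 1 := by
        rw [← pow_mul, ← pow_mul, show i.val * (3 ^ k * 3) = 3 * (i.val * 3 ^ k) by ring, pow_mul, hd3, one_pow]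
      rw [eq_inv_of_mul_eq_one_right hyk, inv_pow, pow_succ, pow_two, et_sq, one_mul, inv_eq_one] at h3
      exact pt_facts.2.2.2.2.2.2.2.2.2.2.1 (congrArg Subtype.val h3)
  obtain ⟨P, hP⟩ := (IsPGroup.of_card (n := 1) (by rw [Nat.card_zpowers, orderOf_eq_prime he3 he1, pow_one]) :
    IsPGroup 3 (Subgroup.zpowers e)).exists_le_sylow
  have heP : e ∈ (P : Subgroup Mt) := hP (Subgroup.mem_zpowers e)
  have hpow : ∀ p ∈ (P : Subgroup Mt), ∃ k, p ^ 3 ^ k = 1 := fun p hp => by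
    obtain ⟨k, hk⟩ := P.isPGroup' ⟨p, hp⟩
    exact ⟨k, congrArg Subtype.val hk⟩
  haveI : Nontrivial (P : Subgroup Mt) := ⟨⟨e, heP⟩, 1, fun h => he1 (congrArg Subtype.val h)⟩
  haveI := P.isPGroup'.center_nontrivial
  obtain ⟨⟨z, hzc⟩, hz1⟩ := exists_ne (1 : Subgroup.center (P : Subgroup Mt))
  have hzcomm : ∀ p ∈ (P : Subgroup Mt), p * (z : Mt) = z * p := fun p hp =>
    congrArg Subtype.val (Subgroup.mem_center_iff.1 hzc ⟨p, hp⟩)
  have hze : (z : Mt) ∈ Subgroup.zpowers e := key _ (hzcomm e heP).symm (hpow _ z.2)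
  have hPe : (P : Subgroup Mt) ≤ Subgroup.zpowers e := by
    intro p hp
    refine key p ?_ (hpow p hp)
    have hze' : Subgroup.zpowers (z : Mt) = Subgroup.zpowers e := by
      refine Subgroup.eq_of_le_of_card_ge (Subgroup.zpowers_le.2 hze) ?_
      have h3 := Subgroup.card_dvd_of_le (Subgroup.zpowers_le.2 hze)
      rw [Nat.card_zpowers, Nat.card_zpowers, orderOf_eq_prime he3 he1] at h3 ⊢
      rcases (Nat.dvd_prime Nat.prime_three).1 h3 with h | h
      · exact absurd (Subtype.ext (Subtype.ext (orderOf_eq_one_iff.1 h))) hz1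
      · rw [h]
    obtain ⟨j, hj⟩ := Subgroup.mem_zpowers_iff.1 (hze'.ge (Subgroup.mem_zpowers e))
    rw [← hj]
    exact ((show Commute p (z : Mt) from hzcomm p hp).zpow_right j).eq
  -- the conjugate of the three-cycle
  have hau : c.Ψ ea * c.Ψ eu = c.Ψ eu * c.Ψ ea := by
    rw [← map_mul, ← map_mul, show ea * eu = eu * ea from Subtype.ext small_facts.2.2.2.2.1.1]
  have hsM : g * c.Ψ ea * g⁻¹ ∈ Mt := by
    rw [hMt, Subgroup.mem_centralizer_singleton_iff, ← hg]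
    calc g * c.Ψ ea * g⁻¹ * (g * c.Ψ eu * g⁻¹) = g * (c.Ψ ea * c.Ψ eu) * g⁻¹ := by group
      _ = g * (c.Ψ eu * c.Ψ ea) * g⁻¹ := by rw [hau]
      _ = _ := by group
  have hs3 : (⟨_, hsM⟩ : Mt) ^ 3 = 1 := Subtype.ext (by
    show (g * c.Ψ ea * g⁻¹) ^ 3 = 1
    rw [conj_pow, ← map_pow, ha3, map_one]; group)
  have hs1 : (⟨_, hsM⟩ : Mt) ≠ 1 := fun h => ha1 (c.psi_eq_one (by
    have h' : g * c.Ψ ea * g⁻¹ = 1 := congrArg Subtype.val h
    rwa [mul_inv_eq_one, mul_eq_left] at h'))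
  obtain ⟨Q, hQ⟩ := (IsPGroup.of_card (n := 1) (by rw [Nat.card_zpowers, orderOf_eq_prime hs3 hs1, pow_one]) :
    IsPGroup 3 (Subgroup.zpowers (⟨_, hsM⟩ : Mt))).exists_le_sylow
  obtain ⟨k, hk⟩ := MulAction.exists_smul_eq Mt Q P
  have hin : k * ⟨_, hsM⟩ * k⁻¹ ∈ Subgroup.zpowers e := by
    refine hPe ?_
    rw [← hk, Sylow.coe_subgroup_smul]
    exact ⟨⟨_, hsM⟩, hQ (Subgroup.mem_zpowers _), rfl⟩
  obtain ⟨j, hj⟩ := (IsOfFinOrder.mem_powers_iff_mem_zpowers (isOfFinOrder_of_finite e)).2 hin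
  have hj' : c.Ψ (ed ^ j) = (k : G) * (g * c.Ψ ea * g⁻¹) * (k : G)⁻¹ := by
    rw [map_pow]
    exact congrArg Subtype.val hj
  have hh : ((k : G) * g)⁻¹ ∈ c.K := c.ctl ha3 ha1 ⟨ed ^ j, hj'.trans (by group)⟩
  obtain ⟨σ, hσ⟩ := hh
  have hσ' : σ⁻¹ * ea * σ = ed ^ j := c.inj (by
    rw [map_mul, map_mul, map_inv, hσ, hj']; group)
  have h1 : mv ((σ⁻¹ * ea * σ : A9) : P9) = 3 := by
    rw [Subgroup.coe_mul, Subgroup.coe_mul, InvMemClass.coe_inv]
    have := mv_conj ((σ : P9)⁻¹) (ea : P9)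
    rw [inv_inv] at this
    rw [this]
    exact pt_facts.2.2.2.2.2.2.2.2.2.2.2
  rw [hσ', pow_eq_pow_mod j hd3, SubgroupClass.coe_pow] at h1
  exact mv_pd_pow ⟨j % 3, Nat.mod_lt _ (by norm_num)⟩ h1

theorem t2_transfer {v v' : A9} (hv : T2 v) {g : G} (h : g⁻¹ * c.Ψ v * g = c.Ψ v') : T2 v' := by
  have h2 : v' * v' = 1 := c.psi_eq_one (by
    rw [map_mul, ← h]
    calc g⁻¹ * c.Ψ v * g * (g⁻¹ * c.Ψ v * g) = g⁻¹ * (c.Ψ v * c.Ψ v) * g := by group
      _ = 1 := by rw [← map_mul, hv.1, map_one]; group)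
  have h1 : v' ≠ 1 := fun e => hv.ne_one (c.psi_eq_one (by
    rw [e, map_one] at h
    calc c.Ψ v = g * (g⁻¹ * c.Ψ v * g) * g⁻¹ := by group
      _ = 1 := by rw [h]; group))
  rcases involution_cases h2 h1 with ⟨h', -⟩ | ⟨-, τ, hτ⟩
  · exact h'
  · exfalso
    rcases involution_cases hv.1 hv.ne_one with ⟨-, σ, hσ⟩ | ⟨h8, -⟩
    · refine c.not_fused (c.Ψ τ * g⁻¹ * (c.Ψ σ)⁻¹) ?_
      rw [← hτ, ← hσ, map_mul, map_mul, map_mul, map_mul, map_inv, map_inv, ← h]
      group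
    · rw [hv.2] at h8; norm_num at h8

/-- (D) a pair of commuting double transpositions whose centraliser lies in the copy controls conjugation. -/
theorem pair_ctl {v w : A9} (hv : T2 v) (hw : T2 w) (hvw : T2 (v * w)) (hle : c.cen v w ≤ c.K) {g : G}
    (h1 : g⁻¹ * c.Ψ v * g ∈ c.K) (h2 : g⁻¹ * c.Ψ w * g ∈ c.K) : g ∈ c.K := by
  obtain ⟨v', hv'⟩ := h1
  obtain ⟨w', hw'⟩ := h2
  have tv := c.t2_transfer hv hv'.symm
  have tw := c.t2_transfer hw hw'.symm
  have tvw : T2 (v' * w') := c.t2_transfer hvw (g := g) (by rw [map_mul, map_mul, hv', hw']; group)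
  have hcomm : v' * w' = w' * v' := by
    calc v' * w' = (v' * w')⁻¹ := (inv_eq_of_mul_eq_one_right tvw.1).symm
      _ = w' * v' := by rw [mul_inv_rev, inv_eq_of_mul_eq_one_right tv.1, inv_eq_of_mul_eq_one_right tw.1]
  rcases involution_cases tv.1 tv.ne_one with ⟨-, σ, hσ⟩ | ⟨h8, -⟩
  swap
  · rw [tv.2] at h8; norm_num at h8
  have hp2 : (σ * w' * σ⁻¹) * (σ * w' * σ⁻¹) = 1 := by
    calc _ = σ * (w' * w') * σ⁻¹ := by group
      _ = 1 := by rw [tw.1]; group
  have hpc : eu * (σ * w' * σ⁻¹) = σ * w' * σ⁻¹ * eu := by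
    rw [← hσ]
    calc σ * v' * σ⁻¹ * (σ * w' * σ⁻¹) = σ * (v' * w') * σ⁻¹ := by group
      _ = σ * (w' * v') * σ⁻¹ := by rw [hcomm]
      _ = _ := by group
  have hm1 : mv ((σ * w' * σ⁻¹ : A9) : P9) = 4 := (mv_conj _ _).trans tw.2
  have hm2 : mv ((eu * (σ * w' * σ⁻¹) : A9) : P9) = 4 := by
    rw [← hσ, show σ * v' * σ⁻¹ * (σ * w' * σ⁻¹) = σ * (v' * w') * σ⁻¹ by group]
    exact (mv_conj _ _).trans tvw.2
  obtain ⟨x, hxs, hx3, hx1, hxu, hxp⟩ := cu_three (congrArg Subtype.val hpc) (congrArg Subtype.val hp2) hm1 hm2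
  set x' : A9 := σ⁻¹ * lift9 x hxs * σ with hx'
  have hxu' : lift9 x hxs * eu = eu * lift9 x hxs := Subtype.ext hxu.symm
  have hxp' : lift9 x hxs * (σ * w' * σ⁻¹) = σ * w' * σ⁻¹ * lift9 x hxs := Subtype.ext hxp.symm
  have hx'v : x' * v' = v' * x' := by
    rw [← hσ] at hxu'
    calc x' * v' = σ⁻¹ * (lift9 x hxs * (σ * v' * σ⁻¹)) * σ := by rw [hx']; group
      _ = σ⁻¹ * (σ * v' * σ⁻¹ * lift9 x hxs) * σ := by rw [hxu']
      _ = v' * x' := by rw [hx']; group
  have hx'w : x' * w' = w' * x' := by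
    calc x' * w' = σ⁻¹ * (lift9 x hxs * (σ * w' * σ⁻¹)) * σ := by rw [hx']; group
      _ = σ⁻¹ * (σ * w' * σ⁻¹ * lift9 x hxs) * σ := by rw [hxp']
      _ = w' * x' := by rw [hx']; group
  have hx'3 : x' ^ 3 = 1 := by
    have h4 : lift9 x hxs ^ 3 = 1 := Subtype.ext hx3
    have h5 := conj_pow (a := σ⁻¹) (b := lift9 x hxs) (i := 3)
    rw [inv_inv] at h5
    rw [hx', h5, h4]; group
  have hx'1 : x' ≠ 1 := fun e => hx1 (by
    have h4 : lift9 x hxs = σ * x' * σ⁻¹ := by rw [hx']; group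
    rw [e, mul_one, mul_inv_cancel] at h4
    exact congrArg Subtype.val h4)
  have hmem : g * c.Ψ x' * g⁻¹ ∈ c.K := hle (c.mem_cen.2 ⟨by
    calc g * c.Ψ x' * g⁻¹ * c.Ψ v = g * (c.Ψ x' * (g⁻¹ * c.Ψ v * g)) * g⁻¹ := by group
      _ = g * (g⁻¹ * c.Ψ v * g * c.Ψ x') * g⁻¹ := by rw [← hv', ← map_mul, hx'v, map_mul]
      _ = _ := by group, by
    calc g * c.Ψ x' * g⁻¹ * c.Ψ w = g * (c.Ψ x' * (g⁻¹ * c.Ψ w * g)) * g⁻¹ := by group
      _ = g * (g⁻¹ * c.Ψ w * g * c.Ψ x') * g⁻¹ := by rw [← hw', ← map_mul, hx'w, map_mul]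
      _ = _ := by group⟩)
  have := c.ctl hx'3 hx'1 (g := g⁻¹) (by rw [inv_inv]; exact hmem)
  exact (c.K.inv_mem_iff).1 this

/-- (E) the centraliser of a product of four transpositions. -/
theorem ct_le : Subgroup.centralizer ({c.Ψ et} : Set G) ≤ c.K := by
  haveI : Fact (Nat.Prime 3) := ⟨Nat.prime_three⟩
  haveI : Fact (Nat.Prime 2) := ⟨Nat.prime_two⟩
  obtain ⟨hd3, hd1, hdt⟩ := ed_cube
  obtain ⟨hxu, hxv, huv, huu, hvv⟩ := small_facts.2.2.2.2.2.1
  obtain ⟨hdu, hdv, -⟩ := small_facts.2.2.2.2.2.2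
  obtain ⟨-, htr, -, -, hrr, hrd⟩ := small_facts.2.2.2.1
  obtain ⟨ht8, hu4, hu14, hv14, huv14, hur, huvr, htu, htv, htt, ht1, -⟩ := pt_facts
  have tu : T2 eu1 := ⟨Subtype.ext huu, hu14⟩
  have tv : T2 ev1 := ⟨Subtype.ext hvv, hv14⟩
  have tuv : T2 (eu1 * ev1) := ⟨Subtype.ext (by
    show pu1 * pv1 * (pu1 * pv1) = 1
    rw [mul_assoc, ← mul_assoc pv1, ← huv, mul_assoc, hvv, mul_one, huu]), huv14⟩
  have hMdef : Subgroup.centralizer ({c.Ψ et} : Set G) = c.cen et et := by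
    ext g; rw [c.mem_cen, Subgroup.mem_centralizer_singleton_iff, and_self_iff]
  rw [hMdef]
  obtain ⟨D, hD, hDc, hDmem, hDcard⟩ := c.cen_local et_sq et_sq rfl
  rw [Set.pair_eq_singleton, ← Subgroup.zpowers_eq_closure, Nat.card_zpowers,
    orderOf_eq_prime (p := 2) (by rw [pow_two]; exact et_sq) (fun h => ht1 (congrArg Subtype.val h))] at hDcard
  have hde : c.Ψ ed ∈ c.cen et et := c.psi_mem_cen hdt hdt
  have hre : c.Ψ er ∈ c.cen et et := c.psi_mem_cen (Subtype.ext htr.symm) (Subtype.ext htr.symm)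
  have hue : c.Ψ eu1 ∈ c.cen et et := c.psi_mem_cen (Subtype.ext htu.symm) (Subtype.ext htu.symm)
  have hve : c.Ψ ev1 ∈ c.cen et et := c.psi_mem_cen (Subtype.ext htv.symm) (Subtype.ext htv.symm)
  generalize hM : c.cen et et = M at *
  set e : M := ⟨c.Ψ ed, hde⟩ with he
  set r : M := ⟨c.Ψ er, hre⟩ with hr
  set u : M := ⟨c.Ψ eu1, hue⟩ with hu
  set v : M := ⟨c.Ψ ev1, hve⟩ with hv
  have hΨ : ∀ {x : A9}, x = 1 → c.Ψ x = 1 := fun h => by rw [h, map_one]
  have he3 : e ^ 3 = 1 := Subtype.ext ((map_pow c.Ψ ed 3).symm.trans (hΨ hd3))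
  have he1 : e ≠ 1 := fun h => hd1 (c.psi_eq_one (congrArg Subtype.val h))
  have hu2 : u * u = 1 := Subtype.ext ((map_mul c.Ψ eu1 eu1).symm.trans (hΨ tu.1))
  have hv2 : v * v = 1 := Subtype.ext ((map_mul c.Ψ ev1 ev1).symm.trans (hΨ tv.1))
  have hr2 : r * r = 1 := Subtype.ext ((map_mul c.Ψ er er).symm.trans (hΨ (Subtype.ext hrr)))
  have hre' : r * e * r⁻¹ = e⁻¹ := Subtype.ext (by
    show c.Ψ er * c.Ψ ed * (c.Ψ er)⁻¹ = (c.Ψ ed)⁻¹
    rw [← map_inv, ← map_inv, ← map_mul, ← map_mul, show er * ed * er⁻¹ = ed⁻¹ from Subtype.ext hrd])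
  have heu : e * u * e⁻¹ = u * v := Subtype.ext (by
    show c.Ψ ed * c.Ψ eu1 * (c.Ψ ed)⁻¹ = c.Ψ eu1 * c.Ψ ev1
    rw [← map_inv, ← map_mul, ← map_mul, ← map_mul, show ed * eu1 * ed⁻¹ = eu1 * ev1 from Subtype.ext hdu])
  have hev : e * v * e⁻¹ = u := Subtype.ext (by
    show c.Ψ ed * c.Ψ ev1 * (c.Ψ ed)⁻¹ = c.Ψ eu1
    rw [← map_inv, ← map_mul, ← map_mul, show ed * ev1 * ed⁻¹ = eu1 from Subtype.ext hdv])
  have huv' : u * v = v * u := Subtype.ext (by
    show c.Ψ eu1 * c.Ψ ev1 = c.Ψ ev1 * c.Ψ eu1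
    rw [← map_mul, ← map_mul, show eu1 * ev1 = ev1 * eu1 from Subtype.ext huv])
  have hur' : (u * r) ^ 4 = 1 := Subtype.ext (by
    show (c.Ψ eu1 * c.Ψ er) ^ 4 = 1
    rw [← map_mul, ← map_pow]; exact hΨ (Subtype.ext hur))
  have huvr' : (u * v * r) ^ 4 = 1 := Subtype.ext (by
    show (c.Ψ eu1 * c.Ψ ev1 * c.Ψ er) ^ 4 = 1
    rw [← map_mul, ← map_mul, ← map_pow]; exact hΨ (Subtype.ext huvr))
  have hCe : ∀ x : M, x * e = e * x → ∃ d ∈ D, ∃ i : ℕ, x = d * e ^ i := by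
    intro x hx
    have hx' : (x : G) * c.Ψ ed = c.Ψ ed * x := congrArg Subtype.val hx
    obtain ⟨y, hy⟩ := c.cent hd3 hd1 hx'
    obtain ⟨hxt, -⟩ := c.mem_cen.1 (show (x : G) ∈ c.cen et et by rw [hM]; exact x.2)
    rw [← hy, ← map_mul, ← map_mul] at hxt hx'
    obtain ⟨d, hd, i, hdi⟩ := ct_elem (c.inj hxt) (c.inj hx')
    have hdmem : d ∈ Subgroup.closure ({et, et} : Set A9) := by
      rcases hd with rfl | rfl
      exacts [one_mem _, Subgroup.subset_closure (Set.mem_insert et _)]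
    have hdM : c.Ψ d ∈ M := by
      rcases hd with rfl | rfl
      · rw [map_one]; exact one_mem _
      · rw [← hM]; exact c.psi_mem_cen rfl rfl
    exact ⟨⟨c.Ψ d, hdM⟩, hDmem _ d hdmem rfl, i.val, Subtype.ext (by
      rw [Subgroup.coe_mul, SubgroupClass.coe_pow, ← hy, hdi, map_mul, map_pow])⟩
  -- the normal two-subgroup containing the four-group
  obtain ⟨N, hN, hN2, huN, hvN⟩ : ∃ (N : Subgroup M), N.Normal ∧ IsPGroup 2 N ∧ u ∈ N ∧ v ∈ N := by
    have hvmem : ∀ N : Subgroup M, N.Normal → u ∈ N → v ∈ N := fun N hN h => by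
      rw [show v = e⁻¹ * u * e⁻¹⁻¹ by rw [← hev]; group]
      exact hN.conj_mem _ h _
    rcases local_cases D hD hDc he3 he1 hCe with ⟨N, hN, -, hco, hnil, hq⟩ | ⟨N, hN, -, hN2, ⟨eq⟩⟩ | h168
    · have heN : e ∉ N := fun h => he1 (eq_one_of_coprime h he3 hco)
      have huN : u ∈ N := by
        rw [← QuotientGroup.eq_one_iff]
        have hu2' : (u : M ⧸ N) ^ 2 = 1 := by rw [pow_two, ← QuotientGroup.mk_mul, hu2, QuotientGroup.mk_one]
        rcases hq with h3 | ⟨⟨q⟩⟩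
        · rw [← orderOf_eq_one_iff]
          exact Nat.eq_one_of_dvd_coprimes (by norm_num : Nat.Coprime 2 3) (orderOf_dvd_of_pow_eq_one hu2')
            (h3 ▸ orderOf_dvd_natCard _)
        · apply q.injective
          rw [map_one]
          let f : M →* Equiv.Perm (Fin 3) := q.toMonoidHom.comp (QuotientGroup.mk' N)
          show f u = 1
          refine Lie.PSpFourThreeFull.perm_three_two (f e) (f u) (by rw [← map_pow, he3, map_one]) ?_
            (by rw [← map_pow, pow_two, hu2, map_one]) ?_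
          · exact fun h => heN ((QuotientGroup.eq_one_iff e).1 (q.injective (h.trans (map_one q).symm)))
          · rw [← map_inv, ← map_mul, ← map_mul, ← map_mul, heu, ← mul_assoc, hu2, one_mul, ← map_pow, pow_two, hv2,
              map_one]
      refine ⟨N, hN, ?_, huN, hvmem N hN huN⟩
      have hl : ∀ ℓ : ℕ, ℓ.Prime → ℓ ∣ Nat.card N → ℓ = 2 := by
        intro ℓ hl hdvd
        by_contra h2
        haveI := Fact.mk hl
        obtain ⟨⟨y, hyN⟩, hyo⟩ := exists_prime_orderOf_dvd_card' ℓ hdvd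
        haveI := hnil
        have hc : ∀ w : M, ∀ hw : w ∈ N, w * w = 1 → w * y = y * w := fun w hw hw2 => by
          rcases eq_or_ne w 1 with rfl | hw1
          · rw [one_mul, mul_one]
          have ho : orderOf (⟨w, hw⟩ : N) = 2 ^ 1 := by
            rw [Subgroup.orderOf_mk, pow_one]; exact orderOf_eq_prime (by rw [pow_two]; exact hw2) hw1
          exact congrArg Subtype.val (Solv.commute_of_coprime_nilpotent ho (v := ⟨y, hyN⟩)
            (by rw [hyo]; exact (Nat.coprime_primes hl Nat.prime_two).2 h2)).eq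
        have h1 := congrArg Subtype.val (hc u huN hu2)
        have h2' := congrArg Subtype.val (hc v (hvmem N hN huN) hv2)
        obtain ⟨z, hz⟩ := c.cu1_le (c.mem_cen.2 ⟨h1.symm, h2'.symm⟩)
        have hzu : z * eu1 = eu1 * z := c.inj (by rw [map_mul, map_mul, hz]; exact h1.symm)
        have hzv : z * ev1 = ev1 * z := c.inj (by rw [map_mul, map_mul, hz]; exact h2'.symm)
        have hy24 : y ^ 24 = 1 := Subtype.ext (by
          rw [SubgroupClass.coe_pow, ← hz, ← map_pow, cu1_pow hzu hzv, map_one]; rfl)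
        have hdiv := orderOf_dvd_of_pow_eq_one hy24
        rw [Subgroup.orderOf_mk] at hyo
        rw [hyo] at hdiv
        rcases prime_dvd_24 hl hdiv with h | h
        · exact h2 h
        · subst h
          have := Nat.dvd_gcd hdvd (dvd_refl 3)
          rw [hco.gcd_eq_one] at this
          norm_num at this
      exact IsPGroup.of_card (Nat.eq_prime_pow_of_unique_prime_dvd Nat.card_pos.ne' fun {d} hd hdd => hl d hd hdd)
    · have heN : e ∉ N := fun h => he1 (eq_one_of_coprime h he3 (coprime_of_two hN2 (by norm_num)))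
      have huN : u ∈ N := by
        rw [← QuotientGroup.eq_one_iff]
        apply eq.injective
        rw [map_one]
        let f : M →* alternatingGroup (Fin 5) := eq.toMonoidHom.comp (QuotientGroup.mk' N)
        show f u = 1
        have hfe : f (e * u * e⁻¹) = f u * f v := by rw [heu, map_mul]
        rw [map_mul, map_mul, map_inv] at hfe
        refine alt_five_pair (f e) (f r) (f u) (by rw [← map_pow, he3, map_one])
          (fun h => heN ((QuotientGroup.eq_one_iff e).1 (eq.injective (h.trans (map_one eq).symm))))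
          (by rw [← map_mul, hr2, map_one]) (by rw [← map_inv, ← map_mul, ← map_mul, hre', map_inv])
          (by rw [← map_mul, hu2, map_one]) ?_ (by rw [← map_mul, ← map_pow, hur', map_one]) ?_
        · rw [hfe, ← map_mul, ← map_mul, ← map_mul, huv', mul_assoc v u u, hu2, mul_one, ← huv', ← mul_assoc, hu2,
            one_mul]
        · rw [hfe, ← map_mul, ← map_mul, ← map_pow, huvr', map_one]
      exact ⟨N, hN, hN2, huN, hvmem N hN huN⟩
    · exfalso
      rw [hDcard] at h168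
      let T := Subgroup.centralizer ({et, eu1} : Set A9)
      let C := Subgroup.centralizer ({pt, pu1} : Set P9)
      have hmemT : ∀ y : A9, y ∈ T ↔ (y : P9) ∈ C := fun y => by
        constructor
        · intro h
          refine Subgroup.mem_centralizer_iff.2 ?_
          rintro _ (rfl | rfl)
          · exact congrArg Subtype.val (Subgroup.mem_centralizer_iff.1 h et (Set.mem_insert et _))
          · exact congrArg Subtype.val (Subgroup.mem_centralizer_iff.1 h eu1 (Set.mem_insert_of_mem et rfl))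
        · intro h
          refine Subgroup.mem_centralizer_iff.2 ?_
          rintro _ (rfl | rfl)
          · exact Subtype.ext (Subgroup.mem_centralizer_iff.1 h pt (Set.mem_insert pt _))
          · exact Subtype.ext (Subgroup.mem_centralizer_iff.1 h pu1 (Set.mem_insert_of_mem pt rfl))
      let φ : C →* ℤˣ := Equiv.Perm.sign.comp C.subtype
      have hTker : Nat.card φ.ker = Nat.card T :=
        Nat.card_congr
          { toFun := fun x => ⟨⟨x.1.1, Equiv.Perm.mem_alternatingGroup.2 x.2⟩, (hmemT _).2 x.1.2⟩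
            invFun := fun y => ⟨⟨y.1.1, (hmemT _).1 y.2⟩, Equiv.Perm.mem_alternatingGroup.1 y.1.2⟩
            left_inv := fun x => rfl
            right_inv := fun y => rfl }
      have h32 : 32 ∣ Nat.card T := by
        have h := Subgroup.card_eq_card_quotient_mul_card_subgroup φ.ker
        rw [card_tu, Nat.card_congr (QuotientGroup.quotientKerEquivRange φ).toEquiv, hTker] at h
        have hr : Nat.card φ.range ∣ 2 := by
          refine (Subgroup.card_subgroup_dvd_card φ.range).trans (dvd_of_eq ?_)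
          rw [Nat.card_eq_fintype_card]; rfl
        rcases (Nat.dvd_prime Nat.prime_two).1 hr with h' | h' <;> rw [h'] at h <;> omega
      have hTM : Nat.card T ∣ Nat.card M := by
        have hle : T.map c.Ψ ≤ M := by
          rintro _ ⟨y, hy, rfl⟩
          rw [← hM]
          have h := Subgroup.mem_centralizer_iff.1 hy et (Set.mem_insert et _)
          exact c.psi_mem_cen h.symm h.symm
        have := Subgroup.card_dvd_of_le hle
        rwa [Subgroup.card_map_of_injective c.inj] at this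
      have := h32.trans hTM
      rw [h168] at this
      norm_num at this
  -- it lies in the copy, being controlled by the four-group
  have hpair : ∀ g : G, g⁻¹ * c.Ψ eu1 * g ∈ c.K → g⁻¹ * c.Ψ ev1 * g ∈ c.K → g ∈ c.K := fun g h1 h2 =>
    c.pair_ctl tu tv tuv c.cu1_le h1 h2
  have hNK : N ≤ c.K.subgroupOf M := by
    rw [← Subgroup.subgroupOf_eq_top]
    by_contra htop
    haveI := hN2.isNilpotent
    have hlt := Group.normalizerCondition_of_isNilpotent (G := N) _ (lt_top_iff_ne_top.2 htop)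
    obtain ⟨x, hx, hxR⟩ := SetLike.exists_of_lt hlt
    refine hxR ?_
    rw [Subgroup.mem_subgroupOf, Subgroup.mem_subgroupOf]
    have hconj : ∀ w : M, ∀ hw : w ∈ N, (w : G) ∈ c.K → ((x : M) : G)⁻¹ * w * ((x : M) : G) ∈ c.K := by
      intro w hw hwK
      exact (Subgroup.mem_normalizer_iff''.1 hx (⟨w, hw⟩ : N)).1 hwK
    exact hpair _ (hconj u huN (c.mem _)) (hconj v hvN (c.mem _))
  intro g hg
  have hconj : ∀ w : M, w ∈ N → g⁻¹ * w * g ∈ c.K := fun w hw => by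
    have := hNK (hN.conj_mem w hw (⟨g, hg⟩⁻¹ : M))
    rw [inv_inv] at this
    exact this
  exact hpair g (hconj u huN) (hconj v hvN)

theorem ct_le_conj {t : A9} (h2 : t * t = 1) (h8 : mv (t : P9) = 8) {g : G}
    (hg : g * c.Ψ t = c.Ψ t * g) : g ∈ c.K := by
  have h1 : t ≠ 1 := fun e => by
    rw [e, Subgroup.coe_one, mv_one] at h8; norm_num at h8
  rcases involution_cases h2 h1 with ⟨h4, -⟩ | ⟨-, σ, hσ⟩
  · rw [h4.2] at h8; norm_num at h8
  have hmem : c.Ψ σ * g * (c.Ψ σ)⁻¹ ∈ c.K := c.ct_le (by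
    rw [Subgroup.mem_centralizer_singleton_iff, ← hσ, map_mul, map_mul, map_inv]
    calc c.Ψ σ * g * (c.Ψ σ)⁻¹ * (c.Ψ σ * c.Ψ t * (c.Ψ σ)⁻¹) = c.Ψ σ * (g * c.Ψ t) * (c.Ψ σ)⁻¹ := by group
      _ = c.Ψ σ * (c.Ψ t * g) * (c.Ψ σ)⁻¹ := by rw [hg]
      _ = _ := by group)
  have e : g = (c.Ψ σ)⁻¹ * (c.Ψ σ * g * (c.Ψ σ)⁻¹) * c.Ψ σ := by group
  rw [e]
  exact c.K.mul_mem (c.K.mul_mem (c.K.inv_mem (c.mem σ)) hmem) (c.mem σ)

end Copy

end Cfsg.Agent.Spor.AltNine.Top
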