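import Cfsg.Agent.Lib.Spor.AltNine.Top.Frame
import Cfsg.Agent.Lib.Lie.PSpFourThreeFull.EightSig

/-!
The centralisers of two kinds of four-groups lie in the copy.
-/

set_option autoImplicit false
set_option maxRecDepth 100000
set_option linter.unusedSectionVars false

namespace Cfsg.Agent.Spor.AltNine.Top

def eq5 : A9 := lift9 pq5 five_facts.1
def ew : A9 := lift9 pw (by
  obtain ⟨-, -, -, -, -, -, -, -, -, -, -, -, -, -, -, -, -, -, -, -, -, -, -, -, -, -, -, -, -, -, -, -, h, -⟩ := gen_facts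
  exact h)

theorem ew_facts : ew * eu1 = eu1 * ew ∧ ew * ev1 = ev1 * ew ∧ (ex' * ew * ex'⁻¹ * ew⁻¹) ^ 3 = 1 ∧
    ex' * ew * ex'⁻¹ * ew⁻¹ ≠ 1 ∧ ew * ew = 1 ∧ ew ≠ 1 := by
  obtain ⟨-, -, -, -, -, -, -, -, -, -, -, -, -, -, -, -, -, -, -, -, -, -, -, -, -, -, -, -, -, -, -, -, -, h1, h2, h3, h4, h5, h6⟩ :=
    gen_facts
  exact ⟨Subtype.ext h3, Subtype.ext h4, Subtype.ext h5, fun h => h6 (congrArg Subtype.val h), Subtype.ext h1,
    fun h => h2 (congrArg Subtype.val h)⟩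

theorem eq_one_of_coprime {M : Type*} [Group M] [Finite M] {N : Subgroup M} {x : M} (hx : x ∈ N) {n : ℕ}
    (hn : x ^ n = 1) (hco : (Nat.card N).Coprime n) : x = 1 := by
  have h1 : x ^ Nat.card N = 1 := congrArg Subtype.val (pow_card_eq_one' (G := N) (x := ⟨x, hx⟩))
  have := pow_gcd_eq_one.mpr ⟨h1, hn⟩
  rwa [hco.gcd_eq_one, pow_one] at this

theorem coprime_of_two {M : Type*} [Group M] [Finite M] {N : Subgroup M} (h : IsPGroup 2 N) {n : ℕ}
    (hn : ¬ 2 ∣ n) : (Nat.card N).Coprime n := by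
  haveI : Fact (Nat.Prime 2) := ⟨Nat.prime_two⟩
  obtain ⟨k, hk⟩ := IsPGroup.iff_card.1 h
  rw [hk]
  exact Nat.Coprime.pow_left _ ((Nat.Prime.coprime_iff_not_dvd Nat.prime_two).2 hn)

theorem small_card {M : Type*} [Group M] [Finite M] {N : Subgroup M} [N.Normal]
    (hq : Nat.card (M ⧸ N) = 3 ∨ Nonempty (M ⧸ N ≃* Equiv.Perm (Fin 3))) :
    Nat.card (M ⧸ N) = 3 ∨ Nat.card (M ⧸ N) = 6 :=
  hq.imp id fun ⟨e⟩ => by rw [Nat.card_congr e.toEquiv, Nat.card_perm, Nat.card_fin]; rfl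

namespace Copy

variable {G : Type*} [Group G] [Finite G] (c : Copy G)

theorem psi_eq_one {x : A9} (h : c.Ψ x = 1) : x = 1 := c.inj (h.trans (map_one _).symm)

/-- If a normal subgroup inside the copy has a quotient covered by the copy, everything is in the copy. -/
theorem le_of_cover {M : Subgroup G} {Q : Type*} [Group Q] (f : M →* Q) (N : Subgroup M) (hf : f.ker ≤ N)
    (hN : N.map M.subtype ≤ c.K) (hcov : (c.K.subgroupOf M).map f = ⊤) : M ≤ c.K := by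
  intro m hm
  obtain ⟨k, hk, hkm⟩ : f ⟨m, hm⟩ ∈ (c.K.subgroupOf M).map f := hcov ▸ Subgroup.mem_top _
  have h1 : (k : G)⁻¹ * m ∈ c.K :=
    hN ⟨k⁻¹ * ⟨m, hm⟩, hf (by rw [MonoidHom.mem_ker, map_mul, map_inv, hkm, inv_mul_cancel]), rfl⟩
  have h2 := c.K.mul_mem (Subgroup.mem_subgroupOf.1 hk) h1
  rwa [mul_inv_cancel_left] at h2

/-- (B) the centraliser of the four-group on four points. -/
theorem cu_le : c.cen eu ev ≤ c.K := by
  obtain ⟨hau, hav, huv, huu, hvv⟩ := small_facts.2.2.2.2.1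
  have huu' : eu * eu = 1 := Subtype.ext huu
  have hvv' : ev * ev = 1 := Subtype.ext hvv
  have huv' : eu * ev = ev * eu := Subtype.ext huv
  obtain ⟨ha3, ha1, -, -, -, -⟩ := rep_cube
  obtain ⟨-, hq5, hq1, hqu, hqv, hc3, hc1⟩ := five_facts
  have hae : c.Ψ ea ∈ c.cen eu ev := c.psi_mem_cen (Subtype.ext hau) (Subtype.ext hav)
  have hqe : c.Ψ eq5 ∈ c.cen eu ev := c.psi_mem_cen (Subtype.ext hqu) (Subtype.ext hqv)
  obtain ⟨D, hD, hDc, hDmem, hDcard⟩ := c.cen_local huu' hvv' huv'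
  generalize hM : c.cen eu ev = M at *
  have he3 : (⟨c.Ψ ea, hae⟩ : M) ^ 3 = 1 :=
    Subtype.ext ((map_pow c.Ψ ea 3).symm.trans (by rw [ha3, map_one]; rfl))
  have he1 : (⟨c.Ψ ea, hae⟩ : M) ≠ 1 := fun h => ha1 (c.psi_eq_one (congrArg Subtype.val h))
  have hq5' : (⟨c.Ψ eq5, hqe⟩ : M) ^ 5 = 1 :=
    Subtype.ext ((map_pow c.Ψ eq5 5).symm.trans (by
      rw [show eq5 ^ 5 = 1 from Subtype.ext hq5, map_one]; rfl))
  have hq1' : (⟨c.Ψ eq5, hqe⟩ : M) ≠ 1 := fun h =>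
    hq1 (congrArg Subtype.val (c.psi_eq_one (congrArg Subtype.val h)))
  haveI : Fact (Nat.Prime 3) := ⟨Nat.prime_three⟩
  haveI : Fact (Nat.Prime 5) := ⟨by norm_num⟩
  haveI : Fact (Nat.Prime 2) := ⟨Nat.prime_two⟩
  have hCe : ∀ x : M, x * ⟨c.Ψ ea, hae⟩ = ⟨c.Ψ ea, hae⟩ * x →
      ∃ d ∈ D, ∃ i : ℕ, x = d * (⟨c.Ψ ea, hae⟩ : M) ^ i := by
    intro x hx
    have hx' : (x : G) * c.Ψ ea = c.Ψ ea * x := congrArg Subtype.val hx
    obtain ⟨y, hy⟩ := c.cent ha3 ha1 hx'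
    obtain ⟨hxu, hxv⟩ := c.mem_cen.1 (by rw [hM]; exact x.2)
    rw [← hy, ← map_mul, ← map_mul] at hxu hxv hx'
    obtain ⟨d, hd, i, hdi⟩ := of_comm [pu, pv, pa]
      (fun q => Equiv.Perm.sign q = 1 → ∃ d ∈ ([1, pu, pv, pu * pv] : List P9), ∃ i : Fin 3, q = d * pa ^ i.val)
      cu_pa (p := (y : P9)) (by
        intro g hg
        simp only [List.mem_cons, List.not_mem_nil, or_false] at hg
        rcases hg with rfl | rfl | rfl
        exacts [congrArg Subtype.val (c.inj hxu).symm, congrArg Subtype.val (c.inj hxv).symm,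
          congrArg Subtype.val (c.inj hx').symm]) (sgn y)
    obtain ⟨d', hd', hdd⟩ : ∃ d' ∈ Subgroup.closure ({eu, ev} : Set A9), (d' : P9) = d := by
      simp only [List.mem_cons, List.not_mem_nil, or_false] at hd
      have hu := Subgroup.subset_closure (k := ({eu, ev} : Set A9)) (Set.mem_insert eu _)
      have hv := Subgroup.subset_closure (k := ({eu, ev} : Set A9)) (Set.mem_insert_of_mem eu rfl)
      rcases hd with rfl | rfl | rfl | rfl
      exacts [⟨1, one_mem _, rfl⟩, ⟨eu, hu, rfl⟩, ⟨ev, hv, rfl⟩, ⟨eu * ev, mul_mem hu hv, rfl⟩]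
    have hy' : y = d' * ea ^ i.val := Subtype.ext (by
      rw [Subgroup.coe_mul, SubgroupClass.coe_pow, hdd]; exact hdi)
    have hdM : c.Ψ d' ∈ M := by
      rcases pair_mem huu' hvv' huv' hd' with rfl | rfl | rfl | rfl
      · rw [map_one]; exact one_mem _
      · rw [← hM]; exact c.psi_mem_cen rfl huv'
      · rw [← hM]; exact c.psi_mem_cen huv'.symm rfl
      · rw [← hM]; exact c.psi_mem_cen (by rw [mul_assoc, ← huv']) (by rw [← mul_assoc, ← huv', mul_assoc])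
    exact ⟨⟨c.Ψ d', hdM⟩, hDmem _ d' hd' rfl, i.val, Subtype.ext (by
      rw [Subgroup.coe_mul, SubgroupClass.coe_pow, ← hy, hy', map_mul, map_pow])⟩
  rcases local_cases D hD hDc he3 he1 hCe with ⟨N, hN, -, hco, -, hq⟩ | ⟨N, hN, hbig, hN2, ⟨eq⟩⟩ | h168
  · -- the five-element falls into the kernel
    exfalso
    have hk : ((⟨c.Ψ eq5, hqe⟩ : M) : M ⧸ N) = 1 := by
      rw [← orderOf_eq_one_iff]
      have h1 : orderOf ((⟨c.Ψ eq5, hqe⟩ : M) : M ⧸ N) ∣ 5 :=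
        orderOf_dvd_of_pow_eq_one (by rw [← QuotientGroup.mk_pow, hq5', QuotientGroup.mk_one])
      refine Nat.eq_one_of_dvd_coprimes ?_ h1 (orderOf_dvd_natCard _)
      rcases small_card hq with h | h <;> rw [h] <;> norm_num
    have hqN := (QuotientGroup.eq_one_iff _).1 hk
    have hcN : (⟨c.Ψ ea, hae⟩ * ⟨c.Ψ eq5, hqe⟩ * (⟨c.Ψ ea, hae⟩ : M)⁻¹ * (⟨c.Ψ eq5, hqe⟩ : M)⁻¹) ∈ N :=
      N.mul_mem (hN.conj_mem _ hqN _) (N.inv_mem hqN)
    have h1 := congrArg Subtype.val (eq_one_of_coprime hcN (n := 3) (Subtype.ext (by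
      show (c.Ψ ea * c.Ψ eq5 * (c.Ψ ea)⁻¹ * (c.Ψ eq5)⁻¹) ^ 3 = 1
      rw [← map_inv, ← map_inv, ← map_mul, ← map_mul, ← map_mul, ← map_pow,
        show (ea * eq5 * ea⁻¹ * eq5⁻¹) ^ 3 = 1 from Subtype.ext hc3, map_one])) hco)
    have h2 : c.Ψ (ea * eq5 * ea⁻¹ * eq5⁻¹) = 1 := by
      rw [map_mul, map_mul, map_mul, map_inv, map_inv]; exact h1
    have h4 := congrArg Subtype.val (c.psi_eq_one h2)
    simp only [Subgroup.coe_mul, InvMemClass.coe_inv, Subgroup.coe_one] at h4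
    exact hc1 h4
  · -- the quotient is covered by the copy
    obtain ⟨E, hE9, haE, hfE, hEc, hE3, hEle⟩ := nine (x := ea) (y := ef) ha3 ha1
      (Subtype.ext pf_pow.1) (fun h => pf_pow.2.1 (congrArg Subtype.val h))
      (Subtype.ext (by
        show pa * pf = pf * pa
        exact pf_pow.2.2))
      (fun i h => by
        have h1 : (pf : P9) = pa ^ i := congrArg Subtype.val h
        rw [pow_eq_pow_mod i (show pa ^ 3 = 1 from congrArg Subtype.val ha3)] at h1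
        exact pf_indep.1 ⟨i % 3, Nat.mod_lt _ (by norm_num)⟩ h1)
    have hnorm : ∀ a ∈ E, c.Ψ a ∈ Subgroup.normalizer (M : Set G) := by
      have hu := Subgroup.subset_closure (k := ({eu, ev} : Set A9)) (Set.mem_insert eu _)
      have hv := Subgroup.subset_closure (k := ({eu, ev} : Set A9)) (Set.mem_insert_of_mem eu rfl)
      refine hEle ((Subgroup.normalizer (M : Set G)).comap c.Ψ) ?_ ?_
      · exact Subgroup.le_normalizer hae
      · have e1 : ef * eu * ef⁻¹ = ev := Subtype.ext pf_act.1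
        have e2 : ef * ev * ef⁻¹ = eu * ev := Subtype.ext pf_act.2
        show c.Ψ ef ∈ Subgroup.normalizer (M : Set G)
        rw [← hM]
        exact c.psi_norm_cen (e1.symm ▸ hv) (e2.symm ▸ mul_mem hu hv)
    have hNK : N.map M.subtype ≤ c.K := c.gen_le E hEc hE3 hE9 _
      (fun a ha => big_normalizer hN hbig (coprime_of_two hN2 (by norm_num)) (hnorm a ha))
      (by rw [Subgroup.card_map_of_injective M.subtype_injective]; exact coprime_of_two hN2 (by norm_num))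
    let ψ : M →* alternatingGroup (Fin 5) := eq.toMonoidHom.comp (QuotientGroup.mk' N)
    have hker : ψ.ker ≤ N := fun x hx =>
      (QuotientGroup.eq_one_iff x).1 (eq.injective (hx.trans (map_one eq).symm))
    refine c.le_of_cover ψ N hker hNK (alt_five_index _ ?_)
    have ord : ∀ (x : M) (p : ℕ), p.Prime → x ^ p = 1 → x ≠ 1 → (x : G) ∈ c.K → ¬ 2 ∣ p →
        p ∣ Nat.card ((c.K.subgroupOf M).map ψ) := by
      intro x p hp hxp hx1 hxK h2
      haveI := Fact.mk hp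
      have hx : ψ x ≠ 1 := fun h => hx1 (eq_one_of_coprime (hker h) hxp (coprime_of_two hN2 h2))
      have hpow : ψ x ^ p = 1 := by rw [← map_pow, hxp, map_one]
      have := orderOf_dvd_natCard (G := (c.K.subgroupOf M).map ψ)
        ⟨ψ x, Subgroup.mem_map_of_mem ψ (Subgroup.mem_subgroupOf.2 hxK)⟩
      rwa [Subgroup.orderOf_mk, orderOf_eq_prime hpow hx] at this
    have h15 : 15 ∣ Nat.card ((c.K.subgroupOf M).map ψ) :=
      Nat.Coprime.mul_dvd_of_dvd_of_dvd (by norm_num : Nat.Coprime 3 5)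
        (ord _ 3 Nat.prime_three he3 he1 (c.mem _) (by norm_num)) (ord _ 5 (by norm_num) hq5' hq1' (c.mem _) (by norm_num))
    obtain ⟨m, hm⟩ := h15
    have hpos : 0 < Nat.card ((c.K.subgroupOf M).map ψ) := Nat.card_pos
    have := ((c.K.subgroupOf M).map ψ).card_mul_index
    rw [hm, nat_card_alternatingGroup, Nat.card_fin, show Nat.factorial 5 / 2 = 60 from rfl] at this
    by_contra h
    have hm1 : 1 ≤ m := by omega
    nlinarith
  · exfalso
    have h5 : 5 ∣ Nat.card M := by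
      rw [← orderOf_eq_prime hq5' hq1']; exact orderOf_dvd_natCard _
    rw [h168] at h5
    obtain ⟨k, hk⟩ := IsPGroup.iff_card.1 hD
    rw [hk] at h5
    have h55 := (Nat.Coprime.dvd_of_dvd_mul_left (by norm_num : Nat.Coprime 5 168) h5)
    have := Nat.Prime.dvd_of_dvd_pow (by norm_num : Nat.Prime 5) h55
    norm_num at this

theorem cu1_pow {z : A9} (hu : z * eu1 = eu1 * z) (hv : z * ev1 = ev1 * z) : z ^ 24 = 1 :=
  Subtype.ext (of_comm [pu1, pv1] (fun q => Equiv.Perm.sign q = 1 → q ^ 24 = 1) cu1_exp (p := (z : P9))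
    (fun g hg => by
      simp only [List.mem_cons, List.not_mem_nil, or_false] at hg
      rcases hg with rfl | rfl
      exacts [congrArg Subtype.val hu.symm, congrArg Subtype.val hv.symm]) (sgn z))

/-- (B') the centraliser of the second four-group. -/
theorem cu1_le : c.cen eu1 ev1 ≤ c.K := by
  obtain ⟨hxu, hxv, huv, huu, hvv⟩ := small_facts.2.2.2.2.2.1
  obtain ⟨hdu, hdv, hdx⟩ := small_facts.2.2.2.2.2.2
  obtain ⟨-, -, hd3, hd1, -, -⟩ := small_facts.2.2.2.1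
  have hx3 : ex' ^ 3 = 1 ∧ ex' ≠ 1 := by
    obtain ⟨-, -, -, -, -, -, -, -, -, -, -, -, -, -, -, -, -, -, -, -, -, -, -, -, h1, -, -, -, -, h3, -⟩ := gen_facts
    exact ⟨Subtype.ext h3, fun h => h1 (congrArg Subtype.val h)⟩
  obtain ⟨hx3, hx1⟩ := hx3
  have huu' : eu1 * eu1 = 1 := Subtype.ext huu
  have hvv' : ev1 * ev1 = 1 := Subtype.ext hvv
  have huv' : eu1 * ev1 = ev1 * eu1 := Subtype.ext huv
  have hxe : c.Ψ ex' ∈ c.cen eu1 ev1 := c.psi_mem_cen (Subtype.ext hxu) (Subtype.ext hxv)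
  obtain ⟨hwu, hwv, hwc3, hwc1, hww, hw1⟩ := ew_facts
  have hwe : c.Ψ ew ∈ c.cen eu1 ev1 := c.psi_mem_cen hwu hwv
  obtain ⟨D, hD, hDc, hDmem, hDcard⟩ := c.cen_local huu' hvv' huv'
  generalize hM : c.cen eu1 ev1 = M at *
  have he3 : (⟨c.Ψ ex', hxe⟩ : M) ^ 3 = 1 :=
    Subtype.ext ((map_pow c.Ψ ex' 3).symm.trans (by rw [hx3, map_one]; rfl))
  have he1 : (⟨c.Ψ ex', hxe⟩ : M) ≠ 1 := fun h => hx1 (c.psi_eq_one (congrArg Subtype.val h))
  haveI : Fact (Nat.Prime 3) := ⟨Nat.prime_three⟩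
  haveI : Fact (Nat.Prime 2) := ⟨Nat.prime_two⟩
  have hCe : ∀ x : M, x * ⟨c.Ψ ex', hxe⟩ = ⟨c.Ψ ex', hxe⟩ * x →
      ∃ d ∈ D, ∃ i : ℕ, x = d * (⟨c.Ψ ex', hxe⟩ : M) ^ i := by
    intro x hx
    have hx' : (x : G) * c.Ψ ex' = c.Ψ ex' * x := congrArg Subtype.val hx
    obtain ⟨y, hy⟩ := c.cent hx3 hx1 hx'
    obtain ⟨hcu, hcv⟩ := c.mem_cen.1 (by rw [hM]; exact x.2)
    rw [← hy, ← map_mul, ← map_mul] at hcu hcv hx'
    obtain ⟨d, hd, i, hdi⟩ := of_comm [pu1, pv1, px]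
      (fun q => Equiv.Perm.sign q = 1 → ∃ d ∈ ([1, pu1, pv1, pu1 * pv1] : List P9), ∃ i : Fin 3, q = d * px ^ i.val)
      cu1_px (p := (y : P9)) (by
        intro g hg
        simp only [List.mem_cons, List.not_mem_nil, or_false] at hg
        rcases hg with rfl | rfl | rfl
        exacts [congrArg Subtype.val (c.inj hcu).symm, congrArg Subtype.val (c.inj hcv).symm,
          congrArg Subtype.val (c.inj hx').symm]) (sgn y)
    obtain ⟨d', hd', hdd⟩ : ∃ d' ∈ Subgroup.closure ({eu1, ev1} : Set A9), (d' : P9) = d := by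
      simp only [List.mem_cons, List.not_mem_nil, or_false] at hd
      have hu := Subgroup.subset_closure (k := ({eu1, ev1} : Set A9)) (Set.mem_insert eu1 _)
      have hv := Subgroup.subset_closure (k := ({eu1, ev1} : Set A9)) (Set.mem_insert_of_mem eu1 rfl)
      rcases hd with rfl | rfl | rfl | rfl
      exacts [⟨1, one_mem _, rfl⟩, ⟨eu1, hu, rfl⟩, ⟨ev1, hv, rfl⟩, ⟨eu1 * ev1, mul_mem hu hv, rfl⟩]
    have hy' : y = d' * ex' ^ i.val := Subtype.ext (by
      rw [Subgroup.coe_mul, SubgroupClass.coe_pow, hdd]; exact hdi)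
    have hdM : c.Ψ d' ∈ M := by
      rcases pair_mem huu' hvv' huv' hd' with rfl | rfl | rfl | rfl
      · rw [map_one]; exact one_mem _
      · rw [← hM]; exact c.psi_mem_cen rfl huv'
      · rw [← hM]; exact c.psi_mem_cen huv'.symm rfl
      · rw [← hM]; exact c.psi_mem_cen (by rw [mul_assoc, ← huv']) (by rw [← mul_assoc, ← huv', mul_assoc])
    exact ⟨⟨c.Ψ d', hdM⟩, hDmem _ d' hd' rfl, i.val, Subtype.ext (by
      rw [Subgroup.coe_mul, SubgroupClass.coe_pow, ← hy, hy', map_mul, map_pow])⟩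
  obtain ⟨E, hE9, hdE, hxE, hEc, hE3, hEle⟩ := nine (x := ex') (y := ed) hx3 hx1
    (Subtype.ext hd3) (fun h => hd1 (congrArg Subtype.val h))
    (Subtype.ext hdx.symm)
    (fun i h => by
      have h1 : (pd : P9) = px ^ i := congrArg Subtype.val h
      rw [pow_eq_pow_mod i (show px ^ 3 = 1 from congrArg Subtype.val hx3)] at h1
      exact pf_indep.2 ⟨i % 3, Nat.mod_lt _ (by norm_num)⟩ h1)
  have hnorm : ∀ a ∈ E, c.Ψ a ∈ Subgroup.normalizer (M : Set G) := by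
    have hu := Subgroup.subset_closure (k := ({eu1, ev1} : Set A9)) (Set.mem_insert eu1 _)
    have hv := Subgroup.subset_closure (k := ({eu1, ev1} : Set A9)) (Set.mem_insert_of_mem eu1 rfl)
    refine hEle ((Subgroup.normalizer (M : Set G)).comap c.Ψ) ?_ ?_
    · exact Subgroup.le_normalizer hxe
    · have e1 : ed * eu1 * ed⁻¹ = eu1 * ev1 := Subtype.ext hdu
      have e2 : ed * ev1 * ed⁻¹ = eu1 := Subtype.ext hdv
      show c.Ψ ed ∈ Subgroup.normalizer (M : Set G)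
      rw [← hM]
      exact c.psi_norm_cen (e1.symm ▸ mul_mem hu hv) (e2.symm ▸ hu)
  obtain ⟨k, hk⟩ := IsPGroup.iff_card.1 hD
  have hbad : ∀ (a ℓ : ℕ) [Fact ℓ.Prime], (ℓ = 5 ∨ ℓ = 7) → Nat.card M ≠ 2 ^ a * 3 * ℓ := by
    intro a ℓ _ hℓ hc
    obtain ⟨y, hy, hy1, hdvd⟩ := Lie.PSpFourThreeFull.exists_central_prime (M := M) (E := E.map c.Ψ)
      (by rintro _ ⟨e, he, rfl⟩; exact hnorm e he) (by rw [Subgroup.card_map_of_injective c.inj, hE9]) hℓ hc
    obtain ⟨e, he, rfl⟩ := hy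
    obtain ⟨⟨m, hm⟩, hmo⟩ := exists_prime_orderOf_dvd_card' ℓ hdvd
    rw [Subgroup.orderOf_mk] at hmo
    obtain ⟨hmM, hmc⟩ := hm
    obtain ⟨z, hz⟩ := c.cent (hE3 e he) (fun h => hy1 (by rw [h, map_one]))
      (Subgroup.mem_centralizer_singleton_iff.1 hmc)
    obtain ⟨hzu, hzv⟩ := c.mem_cen.1 (by rw [hM]; exact hmM)
    rw [← hz, ← map_mul, ← map_mul] at hzu hzv
    have h24 : m ^ 24 = 1 := by rw [← hz, ← map_pow, cu1_pow (c.inj hzu) (c.inj hzv), map_one]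
    have := orderOf_dvd_of_pow_eq_one h24
    rw [hmo] at this
    rcases hℓ with rfl | rfl <;> norm_num at this
  rcases local_cases D hD hDc he3 he1 hCe with ⟨N, hN, hbig, hco, -, hq⟩ | ⟨N, hN, -, hN2, ⟨eq⟩⟩ | h168
  · have hNK : N.map M.subtype ≤ c.K := c.gen_le E hEc hE3 hE9 _
      (fun a ha => big_normalizer hN hbig hco (hnorm a ha))
      (by rw [Subgroup.card_map_of_injective M.subtype_injective]; exact hco)
    refine c.le_of_cover (QuotientGroup.mk' N) N (QuotientGroup.ker_mk' N).le hNK ?_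
    have hxN : (⟨c.Ψ ex', hxe⟩ : M) ∉ N := fun h => he1 (eq_one_of_coprime h he3 hco)
    have hw2 : (⟨c.Ψ ew, hwe⟩ : M) ^ 2 = 1 := Subtype.ext (by
      show c.Ψ ew ^ 2 = 1
      rw [← map_pow, pow_two, hww, map_one])
    have hwN : (⟨c.Ψ ew, hwe⟩ : M) ∉ N := fun h => by
      have hcN : (⟨c.Ψ ex', hxe⟩ * ⟨c.Ψ ew, hwe⟩ * (⟨c.Ψ ex', hxe⟩ : M)⁻¹ * (⟨c.Ψ ew, hwe⟩ : M)⁻¹) ∈ N :=
        N.mul_mem (hN.conj_mem _ h _) (N.inv_mem h)
      have h1 := congrArg Subtype.val (eq_one_of_coprime hcN (n := 3) (Subtype.ext (by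
        show (c.Ψ ex' * c.Ψ ew * (c.Ψ ex')⁻¹ * (c.Ψ ew)⁻¹) ^ 3 = 1
        rw [← map_inv, ← map_inv, ← map_mul, ← map_mul, ← map_mul, ← map_pow, hwc3, map_one])) hco)
      have h2 : c.Ψ (ex' * ew * ex'⁻¹ * ew⁻¹) = 1 := by
        rw [map_mul, map_mul, map_mul, map_inv, map_inv]; exact h1
      exact hwc1 (c.psi_eq_one h2)
    have ord : ∀ (x : M) (p : ℕ), p.Prime → x ^ p = 1 → x ∉ N → (x : G) ∈ c.K →
        p ∣ Nat.card ((c.K.subgroupOf M).map (QuotientGroup.mk' N)) := by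
      intro x p hp hxp hxN' hxK
      haveI := Fact.mk hp
      have hx : (x : M ⧸ N) ≠ 1 := fun h => hxN' ((QuotientGroup.eq_one_iff x).1 h)
      have hpow : (x : M ⧸ N) ^ p = 1 := by rw [← QuotientGroup.mk_pow, hxp, QuotientGroup.mk_one]
      have := orderOf_dvd_natCard (G := (c.K.subgroupOf M).map (QuotientGroup.mk' N))
        ⟨(x : M ⧸ N), ⟨x, Subgroup.mem_subgroupOf.2 hxK, rfl⟩⟩
      rw [← Subgroup.orderOf_coe] at this
      exact (orderOf_eq_prime hpow hx) ▸ this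
    have h6 : 6 ∣ Nat.card ((c.K.subgroupOf M).map (QuotientGroup.mk' N)) :=
      Nat.Coprime.mul_dvd_of_dvd_of_dvd (by norm_num : Nat.Coprime 2 3)
        (ord _ 2 Nat.prime_two hw2 hwN (c.mem _)) (ord _ 3 Nat.prime_three he3 hxN (c.mem _))
    refine Subgroup.eq_top_of_card_eq _ (Nat.dvd_antisymm (Subgroup.card_subgroup_dvd_card _) ?_)
    rcases small_card hq with h | h <;> rw [h]
    · exact (by norm_num : 3 ∣ 6).trans h6
    · exact h6
  · exfalso
    obtain ⟨j, hj⟩ := IsPGroup.iff_card.1 hN2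
    haveI : Fact (Nat.Prime 5) := ⟨by norm_num⟩
    refine hbad (j + 2) 5 (Or.inl rfl) ?_
    rw [Subgroup.card_eq_card_quotient_mul_card_subgroup N, hj, Nat.card_congr eq.toEquiv,
      nat_card_alternatingGroup, Nat.card_fin, show Nat.factorial 5 / 2 = 60 from rfl]
    ring
  · exfalso
    haveI : Fact (Nat.Prime 7) := ⟨by norm_num⟩
    refine hbad (k + 3) 7 (Or.inr rfl) ?_
    rw [h168, hk]
    ring

end Copy

end Cfsg.Agent.Spor.AltNine.Top
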