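import Cfsg.Agent.Lib.Spor.AltNine.Top.Enum

/-!
Products and counts on lists of images.
-/

set_option autoImplicit false
set_option maxRecDepth 100000

namespace Cfsg.Agent.Spor.AltNine.Top

/-- The product of two lists of images. -/
def mulL (a b : List (Fin 9)) : List (Fin 9) := b.map (at' a)

/-- The identity. -/
def idL : List (Fin 9) := List.finRange 9

/-- The number of moved points. -/
def cntL (l : List (Fin 9)) : ℕ := ((List.finRange 9).filter fun i => decide (at' l i ≠ i)).length

/-- The number of moved points. -/
def mv (p : P9) : ℕ := (Finset.univ.filter fun i => p i ≠ i).card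

theorem mulL_img (p q : P9) : mulL (img p) (img q) = img (p * q) := by
  simp only [mulL, img, List.map_ofFn]
  congr 1
  funext i
  exact at_img p (q i)

theorem img_one : img 1 = idL := by decide

theorem img_eq_idL {p : P9} (h : img p = idL) : p = 1 := img_inj (h.trans img_one.symm)

theorem cntL_img (p : P9) : cntL (img p) = (Finset.univ.filter fun i => p i ≠ i).card := by
  simp only [cntL, at_img]
  rfl

end Cfsg.Agent.Spor.AltNine.Top
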