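import Cfsg.Agent.Lib.Spor.AltNine.Top.ListOps

/-!
Facts about the centralisers of a few elements of the alternating group of degree nine.
-/

set_option autoImplicit false
set_option maxRecDepth 100000
set_option synthInstance.maxSize 4000
set_option synthInstance.maxHeartbeats 200000

namespace Cfsg.Agent.Spor.AltNine.Top

open Equiv

/-- A three-cycle. -/
def cyc3 (a b c : Fin 9) : P9 := swap a b * swap b c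

def pa : P9 := cyc3 0 1 2
def pb : P9 := cyc3 0 1 2 * cyc3 3 4 5
def pc : P9 := cyc3 0 1 2 * cyc3 3 4 5 * cyc3 6 7 8
def pu : P9 := swap 5 6 * swap 7 8
def pv : P9 := swap 5 7 * swap 6 8
def pt : P9 := swap 1 2 * swap 3 4 * swap 5 6 * swap 7 8
def pd : P9 := cyc3 1 3 5 * cyc3 2 4 6
def pr : P9 := swap 1 3 * swap 2 4
def pu1 : P9 := swap 1 2 * swap 3 4
def pv1 : P9 := swap 1 2 * swap 5 6
def px : P9 := cyc3 0 7 8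
def pf5 : P9 := swap 3 4 * swap 4 5 * swap 5 6 * swap 6 7
def pi2 : P9 := swap 0 3 * swap 1 4 * swap 2 5 * swap 6 7

/-- A five-cycle. -/
def pq5 : P9 := swap 0 1 * swap 1 2 * swap 2 3 * swap 3 4
/-- A double transposition. -/
def pg1 : P9 := swap 0 2 * swap 3 4
/-- A double transposition. -/
def pg2 : P9 := swap 0 1 * swap 3 4
/-- An involution inverting a three-cycle. -/
def pw : P9 := swap 1 2 * swap 7 8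

theorem of_comm (gens : List P9) (Q : P9 → Prop) (h : ∀ l ∈ sols (gens.map img), Q (ofL l)) {p : P9}
    (hp : ∀ g ∈ gens, g * p = p * g) : Q p := by
  have := h _ (mem_sols hp)
  rwa [ofL_img] at this


theorem small_signs : ∀ p ∈ [pa, pb, pc, pu, pv, pt, pd, pr, pu1, pv1, px, pf5, pi2], Equiv.Perm.sign p = 1 := by
  intro p hp
  simp only [List.mem_cons, List.not_mem_nil, or_false] at hp
  rcases hp with rfl | rfl | rfl | rfl | rfl | rfl | rfl | rfl | rfl | rfl | rfl | rfl | rfl <;>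
    simp +decide [pa, pb, pc, pu, pv, pt, pd, pr, pu1, pv1, px, pf5, pi2, cyc3]

theorem pf5_facts : pf5 ^ 5 = 1 ∧ pf5 ≠ 1 ∧ pa * pf5 = pf5 * pa := by decide +kernel
theorem pi2_facts : pi2 * pi2 = 1 ∧ pi2 ≠ 1 ∧ pb * pi2 = pi2 * pb := by decide +kernel
theorem pd_facts : pt * pd = pd * pt ∧ pt * pr = pr * pt ∧ pd ^ 3 = 1 ∧ pd ≠ 1 ∧ pr * pr = 1 ∧
    pr * pd * pr⁻¹ = pd⁻¹ := by decide +kernel
theorem pu_facts : pa * pu = pu * pa ∧ pa * pv = pv * pa ∧ pu * pv = pv * pu ∧ pu * pu = 1 ∧ pv * pv = 1 := by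
  decide +kernel
theorem px_facts : px * pu1 = pu1 * px ∧ px * pv1 = pv1 * px ∧ pu1 * pv1 = pv1 * pu1 ∧ pu1 * pu1 = 1 ∧
    pv1 * pv1 = 1 := by decide +kernel
theorem pd_act : pd * pu1 * pd⁻¹ = pu1 * pv1 ∧ pd * pv1 * pd⁻¹ = pu1 ∧ pd * px = px * pd := by decide +kernel

theorem small_facts :
    (∀ p ∈ [pa, pb, pc, pu, pv, pt, pd, pr, pu1, pv1, px, pf5, pi2], Equiv.Perm.sign p = 1) ∧
    (pf5 ^ 5 = 1 ∧ pf5 ≠ 1 ∧ pa * pf5 = pf5 * pa) ∧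
    (pi2 * pi2 = 1 ∧ pi2 ≠ 1 ∧ pb * pi2 = pi2 * pb) ∧
    (pt * pd = pd * pt ∧ pt * pr = pr * pt ∧ pd ^ 3 = 1 ∧ pd ≠ 1 ∧ pr * pr = 1 ∧ pr * pd * pr⁻¹ = pd⁻¹) ∧
    (pa * pu = pu * pa ∧ pa * pv = pv * pa ∧ pu * pv = pv * pu ∧ pu * pu = 1 ∧ pv * pv = 1) ∧
    (px * pu1 = pu1 * px ∧ px * pv1 = pv1 * px ∧ pu1 * pv1 = pv1 * pu1 ∧ pu1 * pu1 = 1 ∧ pv1 * pv1 = 1) ∧
    (pd * pu1 * pd⁻¹ = pu1 * pv1 ∧ pd * pv1 * pd⁻¹ = pu1 ∧ pd * px = px * pd) :=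
  ⟨small_signs, pf5_facts, pi2_facts, pd_facts, pu_facts, px_facts, pd_act⟩

theorem five_facts : Equiv.Perm.sign pq5 = 1 ∧ pq5 ^ 5 = 1 ∧ pq5 ≠ 1 ∧ pq5 * pu = pu * pq5 ∧
    pq5 * pv = pv * pq5 ∧ (pa * pq5 * pa⁻¹ * pq5⁻¹) ^ 3 = 1 ∧ pa * pq5 * pa⁻¹ * pq5⁻¹ ≠ 1 := by decide +kernel


theorem gen_facts : mv pa = 3 ∧ mv pd = 6 ∧ mv pu = 4 ∧ mv pt = 8 ∧ mv pu1 = 4 ∧ mv pv1 = 4 ∧
    mv (pu1 * pv1) = 4 ∧ (pu1 * pr) ^ 4 = 1 ∧ (pu1 * pv1 * pr) ^ 4 = 1 ∧ pt * pu1 = pu1 * pt ∧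
    pt * pv1 = pv1 * pt ∧ pa = pg1 * pg2 ∧ Equiv.Perm.sign pg1 = 1 ∧ Equiv.Perm.sign pg2 = 1 ∧
    pg1 * pg1 = 1 ∧ pg2 * pg2 = 1 ∧ mv pg1 = 4 ∧ mv pg2 = 4 ∧ pu ≠ 1 ∧ pv ≠ 1 ∧ pu ≠ pv ∧ pa ≠ 1 ∧ pb ≠ 1 ∧
    pc ≠ 1 ∧ px ≠ 1 ∧ pt ≠ 1 ∧ pa ^ 3 = 1 ∧ pb ^ 3 = 1 ∧ pc ^ 3 = 1 ∧ px ^ 3 = 1 ∧ pu * pv ≠ pu ∧
    pt * pt = 1 ∧ Equiv.Perm.sign pw = 1 ∧ pw * pw = 1 ∧ pw ≠ 1 ∧
    pw * pu1 = pu1 * pw ∧ pw * pv1 = pv1 * pw ∧ (px * pw * px⁻¹ * pw⁻¹) ^ 3 = 1 ∧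
    px * pw * px⁻¹ * pw⁻¹ ≠ 1 := by decide +kernel


theorem pf_indep : (∀ i : Fin 3, swap 6 7 * swap 7 8 ≠ pa ^ i.val) ∧ ∀ i : Fin 3, pd ≠ px ^ i.val := by
  decide +kernel


end Cfsg.Agent.Spor.AltNine.Top
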