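import Cfsg.Agent.Lib.Spor.AltNine.Top.ListOps

/-!
Seven involutions of nine points and the double transpositions commuting with them.
-/

set_option autoImplicit false
set_option maxRecDepth 100000

namespace Cfsg.Agent.Spor.AltNine.Top

/-- The seven involutions. -/
def ts : List (List (Fin 9)) :=
  [[0, 2, 1, 4, 3, 6, 5, 8, 7],
    [1, 0, 2, 4, 3, 6, 5, 8, 7],
    [3, 2, 1, 0, 4, 6, 5, 8, 7],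
    [5, 2, 1, 4, 3, 0, 6, 8, 7],
    [1, 0, 3, 2, 5, 4, 7, 6, 8],
    [6, 4, 5, 8, 1, 2, 0, 7, 3],
    [0, 4, 6, 5, 1, 3, 2, 8, 7]]

/-- The candidates. -/
def cands : List (List (List (Fin 9))) :=
  [[[0, 1, 2, 3, 4, 6, 5, 8, 7],
      [0, 1, 2, 3, 4, 7, 8, 5, 6],
      [0, 1, 2, 3, 4, 8, 7, 6, 5],
      [0, 1, 2, 4, 3, 5, 6, 8, 7],
      [0, 1, 2, 4, 3, 6, 5, 7, 8],
      [0, 1, 2, 5, 6, 3, 4, 7, 8],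
      [0, 1, 2, 6, 5, 4, 3, 7, 8],
      [0, 1, 2, 7, 8, 5, 6, 3, 4],
      [0, 1, 2, 8, 7, 5, 6, 4, 3],
      [0, 2, 1, 3, 4, 5, 6, 8, 7],
      [0, 2, 1, 3, 4, 6, 5, 7, 8],
      [0, 2, 1, 4, 3, 5, 6, 7, 8],
      [0, 3, 4, 1, 2, 5, 6, 7, 8],
      [0, 4, 3, 2, 1, 5, 6, 7, 8],
      [0, 5, 6, 3, 4, 1, 2, 7, 8],
      [0, 6, 5, 3, 4, 2, 1, 7, 8],
      [0, 7, 8, 3, 4, 5, 6, 1, 2],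
      [0, 8, 7, 3, 4, 5, 6, 2, 1]],
    [[0, 1, 2, 3, 4, 6, 5, 8, 7],
      [0, 1, 2, 3, 4, 7, 8, 5, 6],
      [0, 1, 2, 3, 4, 8, 7, 6, 5],
      [0, 1, 2, 4, 3, 5, 6, 8, 7],
      [0, 1, 2, 4, 3, 6, 5, 7, 8],
      [0, 1, 2, 5, 6, 3, 4, 7, 8],
      [0, 1, 2, 6, 5, 4, 3, 7, 8],
      [0, 1, 2, 7, 8, 5, 6, 3, 4],
      [0, 1, 2, 8, 7, 5, 6, 4, 3],
      [1, 0, 2, 3, 4, 5, 6, 8, 7],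
      [1, 0, 2, 3, 4, 6, 5, 7, 8],
      [1, 0, 2, 4, 3, 5, 6, 7, 8],
      [3, 4, 2, 0, 1, 5, 6, 7, 8],
      [4, 3, 2, 1, 0, 5, 6, 7, 8],
      [5, 6, 2, 3, 4, 0, 1, 7, 8],
      [6, 5, 2, 3, 4, 1, 0, 7, 8],
      [7, 8, 2, 3, 4, 5, 6, 0, 1],
      [8, 7, 2, 3, 4, 5, 6, 1, 0]],
    [[0, 1, 2, 3, 4, 6, 5, 8, 7],
      [0, 1, 2, 3, 4, 7, 8, 5, 6],
      [0, 1, 2, 3, 4, 8, 7, 6, 5],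
      [0, 2, 1, 3, 4, 5, 6, 8, 7],
      [0, 2, 1, 3, 4, 6, 5, 7, 8],
      [0, 5, 6, 3, 4, 1, 2, 7, 8],
      [0, 6, 5, 3, 4, 2, 1, 7, 8],
      [0, 7, 8, 3, 4, 5, 6, 1, 2],
      [0, 8, 7, 3, 4, 5, 6, 2, 1],
      [1, 0, 3, 2, 4, 5, 6, 7, 8],
      [2, 3, 0, 1, 4, 5, 6, 7, 8],
      [3, 1, 2, 0, 4, 5, 6, 8, 7],
      [3, 1, 2, 0, 4, 6, 5, 7, 8],
      [3, 2, 1, 0, 4, 5, 6, 7, 8],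
      [5, 1, 2, 6, 4, 0, 3, 7, 8],
      [6, 1, 2, 5, 4, 3, 0, 7, 8],
      [7, 1, 2, 8, 4, 5, 6, 0, 3],
      [8, 1, 2, 7, 4, 5, 6, 3, 0]],
    [[0, 1, 2, 4, 3, 5, 6, 8, 7],
      [0, 1, 2, 7, 8, 5, 6, 3, 4],
      [0, 1, 2, 8, 7, 5, 6, 4, 3],
      [0, 2, 1, 3, 4, 5, 6, 8, 7],
      [0, 2, 1, 4, 3, 5, 6, 7, 8],
      [0, 3, 4, 1, 2, 5, 6, 7, 8],
      [0, 4, 3, 2, 1, 5, 6, 7, 8],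
      [0, 7, 8, 3, 4, 5, 6, 1, 2],
      [0, 8, 7, 3, 4, 5, 6, 2, 1],
      [1, 0, 5, 3, 4, 2, 6, 7, 8],
      [2, 5, 0, 3, 4, 1, 6, 7, 8],
      [3, 1, 2, 0, 5, 4, 6, 7, 8],
      [4, 1, 2, 5, 0, 3, 6, 7, 8],
      [5, 1, 2, 3, 4, 0, 6, 8, 7],
      [5, 1, 2, 4, 3, 0, 6, 7, 8],
      [5, 2, 1, 3, 4, 0, 6, 7, 8],
      [7, 1, 2, 3, 4, 8, 6, 0, 5],
      [8, 1, 2, 3, 4, 7, 6, 5, 0]],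
    [[0, 1, 2, 3, 5, 4, 7, 6, 8],
      [0, 1, 2, 3, 6, 7, 4, 5, 8],
      [0, 1, 2, 3, 7, 6, 5, 4, 8],
      [0, 1, 3, 2, 4, 5, 7, 6, 8],
      [0, 1, 3, 2, 5, 4, 6, 7, 8],
      [0, 1, 4, 5, 2, 3, 6, 7, 8],
      [0, 1, 5, 4, 3, 2, 6, 7, 8],
      [0, 1, 6, 7, 4, 5, 2, 3, 8],
      [0, 1, 7, 6, 4, 5, 3, 2, 8],
      [1, 0, 2, 3, 4, 5, 7, 6, 8],
      [1, 0, 2, 3, 5, 4, 6, 7, 8],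
      [1, 0, 3, 2, 4, 5, 6, 7, 8],
      [2, 3, 0, 1, 4, 5, 6, 7, 8],
      [3, 2, 1, 0, 4, 5, 6, 7, 8],
      [4, 5, 2, 3, 0, 1, 6, 7, 8],
      [5, 4, 2, 3, 1, 0, 6, 7, 8],
      [6, 7, 2, 3, 4, 5, 0, 1, 8],
      [7, 6, 2, 3, 4, 5, 1, 0, 8]],
    [[0, 1, 3, 2, 4, 8, 6, 7, 5],
      [0, 1, 5, 8, 4, 2, 6, 7, 3],
      [0, 1, 8, 5, 4, 3, 6, 7, 2],
      [0, 2, 1, 3, 5, 4, 6, 7, 8],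
      [0, 3, 2, 1, 8, 5, 6, 7, 4],
      [0, 4, 2, 8, 1, 5, 6, 7, 3],
      [0, 4, 5, 3, 1, 2, 6, 7, 8],
      [0, 5, 4, 3, 2, 1, 6, 7, 8],
      [0, 8, 2, 4, 3, 5, 6, 7, 1],
      [1, 0, 2, 3, 6, 5, 4, 7, 8],
      [2, 1, 0, 3, 4, 6, 5, 7, 8],
      [3, 1, 2, 0, 4, 5, 8, 7, 6],
      [4, 6, 2, 3, 0, 5, 1, 7, 8],
      [5, 1, 6, 3, 4, 0, 2, 7, 8],
      [6, 1, 2, 8, 4, 5, 0, 7, 3],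
      [6, 1, 5, 3, 4, 2, 0, 7, 8],
      [6, 4, 2, 3, 1, 5, 0, 7, 8],
      [8, 1, 2, 6, 4, 5, 3, 7, 0]],
    [[0, 1, 2, 5, 4, 3, 6, 8, 7],
      [0, 1, 2, 7, 4, 8, 6, 3, 5],
      [0, 1, 2, 8, 4, 7, 6, 5, 3],
      [0, 1, 3, 2, 4, 6, 5, 7, 8],
      [0, 1, 5, 6, 4, 2, 3, 7, 8],
      [0, 1, 6, 3, 4, 5, 2, 8, 7],
      [0, 1, 6, 5, 4, 3, 2, 7, 8],
      [0, 1, 7, 3, 4, 5, 8, 2, 6],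
      [0, 1, 8, 3, 4, 5, 7, 6, 2],
      [0, 2, 1, 3, 6, 5, 4, 7, 8],
      [0, 3, 2, 1, 5, 4, 6, 7, 8],
      [0, 4, 2, 3, 1, 5, 6, 8, 7],
      [0, 4, 2, 5, 1, 3, 6, 7, 8],
      [0, 4, 6, 3, 1, 5, 2, 7, 8],
      [0, 5, 2, 4, 3, 1, 6, 7, 8],
      [0, 6, 4, 3, 2, 5, 1, 7, 8],
      [0, 7, 2, 3, 8, 5, 6, 1, 4],
      [0, 8, 2, 3, 7, 5, 6, 4, 1]]]

theorem ts_facts : ∀ t ∈ ts, img (ofL t) = t ∧ Equiv.Perm.sign (ofL t) = 1 ∧ ofL t * ofL t = 1 ∧ cntL t = 8 := by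
  decide +kernel

end Cfsg.Agent.Spor.AltNine.Top
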